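import Mathlib.GroupTheory.PGroup
import Mathlib.GroupTheory.Sylow
import Mathlib.GroupTheory.SpecificGroups.Cyclic
import Mathlib.GroupTheory.GroupAction.ConjAct
import Mathlib.GroupTheory.GroupAction.Quotient
import Mathlib.Data.Nat.Choose.Basic
import Mathlib.Data.Finset.Powerset
import Mathlib.Data.Nat.ChineseRemainder

/-! Counting: Wielandt's count of subgroups of prime power order and Frobenius' theorem on `g ^ m = 1`. -/

set_option autoImplicit false
set_option linter.style.haveILetI false
open Pointwise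

universe u v w

namespace Cfsg.Agent.Solv

theorem dvd_card_of_fibers {Y : Type v} {Z : Type w} [Finite Y] (π : Y → Z) {d : ℕ}
    (h : ∀ y, d ∣ Nat.card {y' // π y' = π y}) : d ∣ Nat.card Y := by
  classical
  haveI := Fintype.ofFinite Y
  rw [Nat.card_eq_fintype_card, ← Finset.card_univ,
    Finset.card_eq_sum_card_image π Finset.univ]
  refine Finset.dvd_sum fun z hz => ?_
  obtain ⟨y, _, rfl⟩ := Finset.mem_image.mp hz
  have := h y
  rwa [Nat.card_eq_fintype_card, Fintype.card_subtype] at this

theorem dvd_card_of_orbits {G : Type u} [Group G] {Y : Type v} [MulAction G Y] [Finite Y] {d : ℕ}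
    (h : ∀ y : Y, d ∣ Nat.card (MulAction.orbit G y)) : d ∣ Nat.card Y := by
  refine dvd_card_of_fibers (fun y : Y => (Quotient.mk (MulAction.orbitRel G Y) y)) fun y => ?_
  refine (h y).trans (dvd_of_eq (Nat.card_congr (Equiv.subtypeEquivRight fun y' => ?_)))
  rw [Quotient.eq, MulAction.orbitRel_apply]

/-- The subsets of a given cardinality. -/
abbrev CardSets (G : Type u) (k : ℕ) : Type u := {S : Finset G // S.card = k}

theorem card_cardSets (G : Type u) [Finite G] (k : ℕ) : Nat.card (CardSets G k) = (Nat.card G).choose k := by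
  classical
  haveI := Fintype.ofFinite G
  rw [Nat.card_eq_fintype_card, Nat.card_eq_fintype_card, Fintype.card_finset_len]

/-- The number of `p ^ β`-subsets is the number of subgroups of that order times the index, up to `p` times it. -/
theorem choose_modEq {G : Type u} [Group G] [Finite G] {p β k : ℕ} (hp : p.Prime)
    (hk : Nat.card G = p ^ β * k) :
    (Nat.card G).choose (p ^ β) ≡ Nat.card {H : Subgroup G // Nat.card H = p ^ β} * k [MOD p * k] := by
  classical
  haveI := Fintype.ofFinite G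
  letI : MulAction G (CardSets G (p ^ β)) :=
    { smul := fun g S => ⟨S.1.image (g * ·), by
        rw [Finset.card_image_of_injective _ (mul_right_injective g)]; exact S.2⟩
      one_smul := fun S => Subtype.ext (by show S.1.image ((1 : G) * ·) = S.1; simp)
      mul_smul := fun g h S => Subtype.ext (by
        show S.1.image (g * h * ·) = (S.1.image (h * ·)).image (g * ·)
        rw [Finset.image_image]
        congr 1
        funext x
        exact mul_assoc g h x) }
  have hmem : ∀ (g : G) (S : CardSets G (p ^ β)) (y : G), y ∈ (g • S).1 ↔ g⁻¹ * y ∈ S.1 := by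
    intro g S y
    show y ∈ S.1.image (g * ·) ↔ _
    rw [Finset.mem_image]
    exact ⟨fun ⟨x, hx, he⟩ => by rw [← he, inv_mul_cancel_left]; exact hx,
      fun h => ⟨_, h, mul_inv_cancel_left _ _⟩⟩
  have hfree : ∀ S : CardSets G (p ^ β), Nat.card (MulAction.stabilizer G S) ∣ p ^ β := by
    intro S
    let H := MulAction.stabilizer G S
    have hHS : ∀ (h : H) (y : S.1), (h : G) * y ∈ S.1 := fun h y => by
      have h2 : (h : G) * y ∈ ((h : G) • S).1 := (hmem _ _ _).mpr (by rw [inv_mul_cancel_left]; exact y.2)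
      rwa [MulAction.mem_stabilizer_iff.mp h.2] at h2
    letI : MulAction H S.1 :=
      { smul := fun h y => ⟨(h : G) * y, hHS h y⟩
        one_smul := fun y => Subtype.ext (one_mul (y : G))
        mul_smul := fun a b y => Subtype.ext (mul_assoc (a : G) b y) }
    have h1 := dvd_card_of_orbits (G := H) (Y := S.1) (d := Nat.card H) fun y => by
      have hst : MulAction.stabilizer H y = ⊥ := by
        rw [Subgroup.eq_bot_iff_forall]
        intro h hh
        have : (h : G) * y = y := congrArg Subtype.val (MulAction.mem_stabilizer_iff.mp hh)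
        exact Subtype.ext (mul_eq_right.mp this)
      rw [Nat.card_coe_set_eq, ← MulAction.index_stabilizer, hst, Subgroup.index_bot]
    rwa [Nat.card_eq_finsetCard, S.2] at h1
  have horb : ∀ S : CardSets G (p ^ β), Nat.card (MulAction.orbit G S) * Nat.card (MulAction.stabilizer G S) = p ^ β * k := by
    intro S
    rw [Nat.card_coe_set_eq, ← MulAction.index_stabilizer, Subgroup.index_mul_card, hk]
  -- the other subsets
  have hbad : p * k ∣ Nat.card {S : CardSets G (p ^ β) // ¬ Nat.card (MulAction.stabilizer G S) = p ^ β} := by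
    refine dvd_card_of_fibers (fun S => Quotient.mk (MulAction.orbitRel G (CardSets G (p ^ β))) S.1) fun S => ?_
    have hiff : ∀ T, T ∈ MulAction.orbit G S.1 → ¬ Nat.card (MulAction.stabilizer G T) = p ^ β := by
      intro T hT
      obtain ⟨g, rfl⟩ := hT
      intro hc
      apply S.2
      have h1 := horb S.1
      have h2 := horb (g • S.1)
      rw [MulAction.orbit_smul, hc] at h2
      rw [← h2] at h1
      haveI := (MulAction.nonempty_orbit (M := G) S.1).to_subtype
      exact Nat.eq_of_mul_eq_mul_left Nat.card_pos h1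
    have hd : p * k ∣ Nat.card (MulAction.orbit G S.1) := by
      obtain ⟨γ, hγ, hc⟩ := (Nat.dvd_prime_pow hp).mp (hfree S.1)
      have hlt : γ < β := lt_of_le_of_ne hγ fun h => S.2 (h ▸ hc)
      have key : ∀ O b, γ < b → O * p ^ γ = p ^ b * k → p * k ∣ O := by
        intro O b hb hO
        obtain ⟨δ, rfl⟩ : ∃ δ, b = γ + (δ + 1) := ⟨b - γ - 1, by omega⟩
        rw [pow_add, mul_comm (p ^ γ), mul_assoc, mul_comm (p ^ γ), ← mul_assoc] at hO
        rw [Nat.eq_of_mul_eq_mul_right (pow_pos hp.pos γ) hO, pow_succ, mul_assoc]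
        exact dvd_mul_left _ _
      refine key _ β hlt ?_
      rw [← hc]
      exact horb S.1
    refine hd.trans (dvd_of_eq (Nat.card_congr
      { toFun := fun T => ⟨⟨T.1, hiff T.1 T.2⟩, Quotient.sound (MulAction.orbitRel_apply.mpr T.2)⟩
        invFun := fun T => ⟨T.1.1, MulAction.orbitRel_apply.mp (Quotient.exact T.2)⟩
        left_inv := fun _ => rfl
        right_inv := fun _ => rfl }))
  -- the cosets
  have hgood : Nat.card {S : CardSets G (p ^ β) // Nat.card (MulAction.stabilizer G S) = p ^ β} =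
      Nat.card {H : Subgroup G // Nat.card H = p ^ β} * k := by
    let cos : (H : {H : Subgroup G // Nat.card H = p ^ β}) → G → CardSets G (p ^ β) := fun H g =>
      ⟨Finset.univ.filter (fun y => y * g ∈ H.1), by
        exact (Fintype.card_subtype _).symm.trans (Nat.card_eq_fintype_card.symm.trans
          ((Nat.card_congr ((Equiv.mulRight g).subtypeEquiv (q := fun y => y ∈ H.1) fun y => Iff.rfl)).trans H.2))⟩
    have hcos : ∀ H g y, y ∈ (cos H g).1 ↔ y * g ∈ H.1 := fun H g y => by simp [cos]
    have hstab : ∀ H g, MulAction.stabilizer G (cos H g) = H.1 := by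
      intro H g
      have hle : H.1 ≤ MulAction.stabilizer G (cos H g) := by
        intro h hh
        rw [MulAction.mem_stabilizer_iff]
        refine Subtype.ext (Finset.ext fun y => ?_)
        rw [hmem, hcos, hcos, mul_assoc, H.1.mul_mem_cancel_left (inv_mem hh)]
      refine (Subgroup.eq_of_le_of_card_ge hle ?_).symm
      rw [H.2]
      exact Nat.le_of_dvd (pow_pos hp.pos β) (hfree _)
    have hwd : ∀ H a b, (QuotientGroup.leftRel (H : {H : Subgroup G // Nat.card H = p ^ β}).1) a b →
        cos H a = cos H b := by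
      intro H a b hab
      rw [QuotientGroup.leftRel_apply] at hab
      refine Subtype.ext (Finset.ext fun y => ?_)
      rw [hcos, hcos, show y * b = y * a * (a⁻¹ * b) by group, H.1.mul_mem_cancel_right hab]
    let F : (Σ H : {H : Subgroup G // Nat.card H = p ^ β}, G ⧸ H.1) →
        {S : CardSets G (p ^ β) // Nat.card (MulAction.stabilizer G S) = p ^ β} := fun x =>
      ⟨Quotient.liftOn' x.2 (cos x.1) (hwd x.1), by
        obtain ⟨H, c⟩ := x
        induction c using QuotientGroup.induction_on with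
        | H g => show Nat.card (MulAction.stabilizer G (cos H g)) = _; rw [hstab]; exact H.2⟩
    have hF : Function.Bijective F := by
      constructor
      · rintro ⟨H, c⟩ ⟨H', c'⟩ h
        induction c using QuotientGroup.induction_on with
        | H g =>
        induction c' using QuotientGroup.induction_on with
        | H g' =>
        have h' : cos H g = cos H' g' := congrArg Subtype.val h
        obtain rfl : H = H' := Subtype.ext (by rw [← hstab H g, h', hstab])
        congr 1
        rw [QuotientGroup.eq]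
        have : g⁻¹ ∈ (cos H g).1 := (hcos _ _ _).mpr (by rw [inv_mul_cancel]; exact one_mem _)
        rw [h', hcos] at this
        exact this
      · rintro ⟨S, hS⟩
        obtain ⟨x, hx⟩ := Finset.card_pos.mp (S.2.symm ▸ pow_pos hp.pos β)
        refine ⟨⟨⟨_, hS⟩, (x⁻¹ : G)⟩, Subtype.ext ?_⟩
        show cos ⟨_, hS⟩ x⁻¹ = S
        refine Subtype.ext (Finset.eq_of_subset_of_card_le (fun y hy => ?_) (le_of_eq ?_))
        · rw [hcos] at hy
          have h2 : y ∈ ((y * x⁻¹) • S).1 := (hmem _ _ _).mpr (by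
            rw [show (y * x⁻¹)⁻¹ * y = x by group]; exact hx)
          rwa [MulAction.mem_stabilizer_iff.mp hy] at h2
        · rw [S.2, (cos _ _).2]
    rw [← Nat.card_eq_of_bijective F hF, Nat.card_sigma,
      Finset.sum_const_nat (m := k) (fun H _ => ?_), Finset.card_univ, Nat.card_eq_fintype_card]
    rw [← Subgroup.index_eq_card]
    have := Subgroup.index_mul_card H.1
    rw [H.2, hk, mul_comm (p ^ β)] at this
    exact Nat.eq_of_mul_eq_mul_right (pow_pos hp.pos β) this
  rw [← card_cardSets, ← hgood,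
    ← Nat.card_congr (Equiv.sumCompl fun S : CardSets G (p ^ β) => Nat.card (MulAction.stabilizer G S) = p ^ β),
    Nat.card_sum]
  obtain ⟨t, ht⟩ := hbad
  rw [ht]
  exact Nat.ModEq.add_left _ (Nat.modEq_zero_iff_dvd.mpr (dvd_mul_right _ t)) |>.trans (by rw [add_zero])

/-- The number of subgroups of a given prime power order is `1` mod `p`. -/
theorem card_subgroups_modEq_one {G : Type u} [Group G] [Finite G] {p β : ℕ} (hp : p.Prime)
    (hdiv : p ^ β ∣ Nat.card G) : Nat.card {H : Subgroup G // Nat.card H = p ^ β} ≡ 1 [MOD p] := by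
  classical
  obtain ⟨k, hk⟩ := hdiv
  haveI : NeZero (Nat.card G) := ⟨Nat.card_pos.ne'⟩
  have hC : Nat.card (Multiplicative (ZMod (Nat.card G))) = Nat.card G := Nat.card_zmod _
  have h1 := choose_modEq (G := G) hp hk
  have h2 := choose_modEq (G := Multiplicative (ZMod (Nat.card G))) hp (hC.trans hk)
  rw [hC] at h2
  have hone : Nat.card {H : Subgroup (Multiplicative (ZMod (Nat.card G))) // Nat.card H = p ^ β} = 1 := by
    haveI := Fact.mk hp
    rw [Nat.card_eq_one_iff_unique]
    refine ⟨⟨fun H K => Subtype.ext ?_⟩, ?_⟩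
    · haveI := Fintype.ofFinite (Multiplicative (ZMod (Nat.card G)))
      have hle : ∀ H : {H : Subgroup (Multiplicative (ZMod (Nat.card G))) // Nat.card H = p ^ β},
          Finset.univ.filter (fun x => x ∈ H.1) =
            Finset.univ.filter (fun x : Multiplicative (ZMod (Nat.card G)) => x ^ p ^ β = 1) := by
        intro H
        refine Finset.eq_of_subset_of_card_le (fun x hx => ?_) ?_
        · rw [Finset.mem_filter] at hx ⊢
          refine ⟨hx.1, ?_⟩
          have := congrArg Subtype.val (pow_card_eq_one' (x := (⟨x, hx.2⟩ : H.1)))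
          rwa [H.2] at this
        · exact (IsCyclic.card_pow_eq_one_le (pow_pos hp.pos β)).trans
            (le_of_eq (H.2.symm.trans (Nat.card_eq_fintype_card.trans (Fintype.card_subtype _))))
      ext x
      have := Finset.ext_iff.mp ((hle H).trans (hle K).symm) x
      simpa using this
    · obtain ⟨H, hH⟩ := Sylow.exists_subgroup_card_pow_prime (G := Multiplicative (ZMod (Nat.card G))) p
        (n := β) (by rw [hC, hk]; exact dvd_mul_right _ _)
      exact ⟨⟨H, hH⟩⟩
  rw [hone, one_mul] at h2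
  have h3 := h1.symm.trans h2
  have hk0 : k ≠ 0 := fun h => by
    rw [h, mul_zero] at hk
    exact (Nat.card_pos (α := G)).ne' hk
  exact Nat.ModEq.mul_right_cancel' hk0 (by rwa [one_mul])

/-- Frobenius: `m ∣ #{g | g ^ m = 1}` when `m ∣ #G`. -/
theorem frobenius_solutions : ∀ (n : ℕ) (G : Type u) [Group G] [Finite G], Nat.card G = n →
    ∀ m, m ∣ n → m ∣ Nat.card {g : G // g ^ m = 1} := by
  intro n
  induction n using Nat.strong_induction_on with
  | _ n ihn =>
  intro G _ _ hG
  suffices key : ∀ e m, m * e = n → m ∣ Nat.card {g : G // g ^ m = 1} by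
    rintro m ⟨e, he⟩
    exact key e m he.symm
  intro e
  induction e using Nat.strong_induction_on with
  | _ e ihe =>
  intro m hme
  classical
  have hn0 : 0 < n := hG ▸ Nat.card_pos
  by_cases he1 : e = 1
  · subst he1
    rw [mul_one] at hme
    subst hme
    have hall : ∀ g : G, g ^ m = 1 := fun g => hG ▸ pow_card_eq_one'
    rw [Nat.card_congr (Equiv.subtypeUnivEquiv hall), hG]
  obtain ⟨p, hp, e', rfl⟩ := Nat.exists_prime_and_dvd he1
  haveI := Fact.mk hp
  have he0 : 0 < e' := Nat.pos_of_ne_zero fun h => by simp [h] at hme; omega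
  have hmp : m * p ∣ Nat.card {g : G // g ^ (m * p) = 1} :=
    ihe e' (lt_mul_of_one_lt_left he0 hp.one_lt) (m * p) (by rw [← hme, mul_assoc])
  have hm0 : m ≠ 0 := fun h => by simp [h] at hme; omega
  obtain ⟨a, r, hr, hmr⟩ := Nat.exists_eq_pow_mul_and_not_dvd hm0 p hp.ne_one
  have hP : m * p = p ^ (a + 1) * r := by rw [hmr, pow_succ]; ring
  have hco : (p ^ (a + 1)).Coprime r := Nat.Coprime.pow_left _ (hp.coprime_iff_not_dvd.mpr hr)
  have hsplit : Nat.card {g : G // g ^ (m * p) = 1} =
      Nat.card {g : G // g ^ m = 1} + Nat.card {g : G // g ^ (m * p) = 1 ∧ ¬ g ^ m = 1} := by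
    rw [← Nat.card_sum]
    refine Nat.card_congr
      { toFun := fun g => if h : (g : G) ^ m = 1 then .inl ⟨g, h⟩ else .inr ⟨g, g.2, h⟩
        invFun := fun s => match s with
          | .inl g => ⟨g.1, by rw [pow_mul, g.2, one_pow]⟩
          | .inr g => ⟨g.1, g.2.1⟩
        left_inv := fun g => ?_
        right_inv := fun s => ?_ }
    · by_cases h : (g : G) ^ m = 1 <;> simp [h]
    · rcases s with g | g
      · simp [g.2]
      · simp [g.2.2]
  suffices hD : m ∣ Nat.card {g : G // g ^ (m * p) = 1 ∧ ¬ g ^ m = 1} by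
    refine (Nat.dvd_add_left hD).mp ?_
    rw [← hsplit]
    exact (dvd_mul_right m p).trans hmp
  subst hmr
  rw [hP]
  refine (Nat.Coprime.pow_left _ (hp.coprime_iff_not_dvd.mpr hr)).mul_dvd_of_dvd_of_dvd ?_ ?_
  · -- the `p`-part
    refine dvd_card_of_fibers (fun g => Subgroup.zpowers g.1) fun g => ?_
    have hord : p ^ (a + 1) ∣ orderOf g.1 := by
      have h1 : orderOf g.1 ∣ p ^ (a + 1) * r := orderOf_dvd_of_pow_eq_one g.2.1
      by_contra hnd
      apply g.2.2
      rw [← orderOf_dvd_iff_pow_eq_one]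
      obtain ⟨d1, d2, hd1, hd2, hd⟩ := (Nat.dvd_mul.mp h1)
      obtain ⟨i, hi, rfl⟩ := (Nat.dvd_prime_pow hp).mp hd1
      have hia : i ≤ a := by
        by_contra hia
        apply hnd
        exact ((pow_dvd_pow p (by omega : a + 1 ≤ i)).trans (dvd_mul_right _ d2)).trans (dvd_of_eq hd)
      rw [← hd]
      exact mul_dvd_mul (pow_dvd_pow p hia) hd2
    have htot : p ^ a ∣ (orderOf g.1).totient := by
      refine dvd_trans ?_ (Nat.totient_dvd_of_dvd hord)
      rw [Nat.totient_prime_pow_succ hp]
      exact dvd_mul_right _ _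
    refine htot.trans (dvd_of_eq ?_)
    haveI := Fintype.ofFinite (Subgroup.zpowers g.1)
    rw [← IsCyclic.card_orderOf_eq_totient (α := Subgroup.zpowers g.1)
      (d := orderOf g.1) (dvd_of_eq ((Nat.card_zpowers g.1).symm.trans Nat.card_eq_fintype_card)), ← Fintype.card_subtype,
      ← Nat.card_eq_fintype_card]
    have hfib : ∀ x : Subgroup.zpowers g.1, orderOf x = orderOf g.1 →
        Subgroup.zpowers (x : G) = Subgroup.zpowers g.1 := by
      intro x hx
      refine Subgroup.eq_of_le_of_card_ge (Subgroup.zpowers_le.mpr x.2) ?_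
      rw [Nat.card_zpowers, Nat.card_zpowers, Subgroup.orderOf_coe, hx]
    have hsol : ∀ x : Subgroup.zpowers g.1, orderOf x = orderOf g.1 →
        (x : G) ^ (p ^ (a + 1) * r) = 1 ∧ ¬ (x : G) ^ (p ^ a * r) = 1 := by
      intro x hx
      rw [← orderOf_dvd_iff_pow_eq_one, ← orderOf_dvd_iff_pow_eq_one, Subgroup.orderOf_coe, hx,
        orderOf_dvd_iff_pow_eq_one, orderOf_dvd_iff_pow_eq_one]
      exact g.2
    exact Nat.card_congr
      { toFun := fun x => ⟨⟨x.1.1, hsol x.1 x.2⟩, hfib x.1 x.2⟩
        invFun := fun y => ⟨⟨y.1.1, Subgroup.zpowers_le.mp y.2.le⟩, by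
          rw [← Subgroup.orderOf_coe]
          show orderOf y.1.1 = orderOf g.1
          rw [← Nat.card_zpowers, ← Nat.card_zpowers, y.2]⟩
        left_inv := fun _ => rfl
        right_inv := fun _ => rfl }
  · -- the part prime to `p`
    obtain ⟨s, hs1, hs2⟩ := Nat.chineseRemainder hco 1 0
    obtain ⟨t, ht1, ht2⟩ := Nat.chineseRemainder hco 0 1
    let P := p ^ (a + 1)
    let U := {u : G // orderOf u = P}
    let Y := Σ u : U, {v : Subgroup.centralizer {u.1} // v ^ r = 1}
    have hfix : ∀ (x : G) (M i j : ℕ), x ^ M = 1 → i ≡ j [MOD M] → x ^ i = x ^ j := by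
      intro x M i j hx hij
      exact pow_eq_pow_iff_modEq.mpr (hij.of_dvd (orderOf_dvd_of_pow_eq_one hx))
    have hgU : ∀ g : {g : G // g ^ (p ^ (a + 1) * r) = 1 ∧ ¬ g ^ (p ^ a * r) = 1}, orderOf (g.1 ^ s) = P := by
      intro g
      refine orderOf_eq_prime_pow (p := p) (n := a) (fun h => g.2.2 ?_) ?_
      · have hst : g.1 = g.1 ^ s * g.1 ^ t := by
          rw [← pow_add]
          conv_lhs => rw [← pow_one g.1]
          refine (hfix g.1 _ _ _ g.2.1 ?_).symm
          exact (Nat.modEq_and_modEq_iff_modEq_mul hco).mp ⟨hs1.add ht1, hs2.add ht2⟩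
        rw [hst, ((Commute.pow_self g.1 s).pow_right t).mul_pow]
        have hA : (g.1 ^ s) ^ (p ^ a * r) = 1 := by rw [pow_mul, h, one_pow]
        obtain ⟨c, hc⟩ := Nat.modEq_zero_iff_dvd.mp ht1
        have hB : (g.1 ^ t) ^ (p ^ a * r) = 1 := by
          rw [hc, ← pow_mul, show p ^ (a + 1) * c * (p ^ a * r) = (p ^ (a + 1) * r) * (c * p ^ a) by ring,
            pow_mul, g.2.1, one_pow]
        rw [hA, hB, mul_one]
      · obtain ⟨c, hc⟩ := Nat.modEq_zero_iff_dvd.mp hs2
        rw [hc, ← pow_mul, show r * c * p ^ (a + 1) = (p ^ (a + 1) * r) * c by ring, pow_mul, g.2.1,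
          one_pow]
    have hDY : Nat.card {g : G // g ^ (p ^ (a + 1) * r) = 1 ∧ ¬ g ^ (p ^ a * r) = 1} = Nat.card Y := by
      let f : {g : G // g ^ (p ^ (a + 1) * r) = 1 ∧ ¬ g ^ (p ^ a * r) = 1} → Y := fun g =>
        ⟨⟨g.1 ^ s, hgU g⟩, ⟨⟨g.1 ^ t, Subgroup.mem_centralizer_singleton_iff.mpr
          ((Commute.pow_self g.1 s).pow_right t).symm.eq⟩, Subtype.ext (by
            show (g.1 ^ t) ^ r = 1
            obtain ⟨c, hc⟩ := Nat.modEq_zero_iff_dvd.mp ht1
            rw [hc, ← pow_mul, show p ^ (a + 1) * c * r = (p ^ (a + 1) * r) * c by ring, pow_mul, g.2.1,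
              one_pow])⟩⟩
      refine Nat.card_eq_of_bijective f ⟨fun g g' h => ?_, fun y => ?_⟩
      · obtain ⟨h1, h2⟩ := Sigma.mk.inj_iff.mp h
        have e1 : g.1 ^ s = g'.1 ^ s := congrArg Subtype.val h1
        have e2 : g.1 ^ t = g'.1 ^ t := congrArg (fun y : Y => ((y.2.1 : Subgroup.centralizer {y.1.1}) : G)) h
        have key : ∀ x : {g : G // g ^ (p ^ (a + 1) * r) = 1 ∧ ¬ g ^ (p ^ a * r) = 1}, x.1 = x.1 ^ s * x.1 ^ t := fun x => by
          rw [← pow_add]
          conv_lhs => rw [← pow_one x.1]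
          refine (hfix x.1 _ _ _ x.2.1 ?_).symm
          exact (Nat.modEq_and_modEq_iff_modEq_mul hco).mp ⟨hs1.add ht1, hs2.add ht2⟩
        exact Subtype.ext (by rw [key g, key g', e1, e2])
      · obtain ⟨⟨u, hu⟩, ⟨v, hv⟩, hvr⟩ := y
        have hvr' : v ^ r = 1 := congrArg Subtype.val hvr
        have hc : Commute u v := (Subgroup.mem_centralizer_singleton_iff.mp hv).symm
        have huP : u ^ (p ^ (a + 1)) = 1 := by
          have := pow_orderOf_eq_one u
          rwa [hu] at this
        have hg1 : (u * v) ^ (p ^ (a + 1) * r) = 1 := by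
          rw [hc.mul_pow, pow_mul, huP, one_pow, one_mul, mul_comm, pow_mul, hvr', one_pow]
        have hg2 : ¬ (u * v) ^ (p ^ a * r) = 1 := by
          intro h
          rw [hc.mul_pow, pow_mul v, ← pow_mul v, mul_comm (p ^ a) r, pow_mul v, hvr', one_pow, mul_one,
            ← orderOf_dvd_iff_pow_eq_one, hu, mul_comm] at h
          have h' := (Nat.Coprime.dvd_of_dvd_mul_left hco (mul_comm (p ^ a) r ▸ h : p ^ (a + 1) ∣ r * p ^ a))
          exact Nat.not_succ_le_self a ((Nat.pow_dvd_pow_iff_le_right hp.one_lt).mp h')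
        refine ⟨⟨u * v, hg1, hg2⟩, ?_⟩
        have e1 : (u * v) ^ s = u := by
          rw [hc.mul_pow, hfix u _ s 1 huP hs1, hfix v r s 0 hvr' hs2, pow_one, pow_zero, mul_one]
        have e2 : (u * v) ^ t = v := by
          rw [hc.mul_pow, hfix u _ t 0 huP ht1, hfix v r t 1 hvr' ht2, pow_one, pow_zero, one_mul]
        have hext : ∀ y y' : Y, y.1.1 = y'.1.1 → ((y.2.1 : Subgroup.centralizer {y.1.1}) : G) =
            ((y'.2.1 : Subgroup.centralizer {y'.1.1}) : G) → y = y' := by
          rintro ⟨⟨u₁, hu₁⟩, ⟨v₁, hv₁⟩, h₁⟩ ⟨⟨u₂, hu₂⟩, ⟨v₂, hv₂⟩, h₂⟩ (rfl : u₁ = u₂) (rfl : v₁ = v₂)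
          rfl
        exact hext _ _ e1 e2
    rw [hDY]
    let π : Y → ConjClasses G := fun y => ConjClasses.mk y.1.1
    refine dvd_card_of_fibers π fun y => ?_
    obtain ⟨⟨u, hu⟩, v⟩ := y
    let K := {u' : G // ConjClasses.mk u' = ConjClasses.mk u}
    haveI : Finite K := Subtype.finite
    haveI : Nonempty K := ⟨⟨u, rfl⟩⟩
    letI : Fintype K := Fintype.ofFinite K
    have hKU : ∀ u' : K, orderOf u'.1 = P := by
      intro u'
      obtain ⟨c, hc⟩ := isConj_iff.mp (ConjClasses.mk_eq_mk_iff_isConj.mp u'.2.symm)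
      rw [← hc, ← hu]
      exact orderOf_injective (MulAut.conj c).toMonoidHom (MulEquiv.injective _) u
    have hcentr : ∀ u' : K, Nat.card {v : Subgroup.centralizer {u'.1} // v ^ r = 1} =
        Nat.card {v : Subgroup.centralizer {u} // v ^ r = 1} := by
      intro u'
      obtain ⟨c, hc⟩ := isConj_iff.mp (ConjClasses.mk_eq_mk_iff_isConj.mp u'.2.symm)
      have hmap : (Subgroup.centralizer {u}).map (MulAut.conj c).toMonoidHom = Subgroup.centralizer {u'.1} := by
        ext x
        rw [Subgroup.mem_map_equiv, Subgroup.mem_centralizer_singleton_iff, Subgroup.mem_centralizer_singleton_iff,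
          ← (MulAut.conj c).injective.eq_iff, map_mul, map_mul, MulEquiv.apply_symm_apply,
          show MulAut.conj c u = u'.1 from hc]
      let e : Subgroup.centralizer {u} ≃* Subgroup.centralizer {u'.1} :=
        ((Subgroup.centralizer {u}).equivMapOfInjective _ (MulEquiv.injective _)).trans (MulEquiv.subgroupCongr hmap)
      exact (Nat.card_congr (e.toEquiv.subtypeEquiv fun v => by
        show v ^ r = 1 ↔ e v ^ r = 1
        rw [← map_pow, EmbeddingLike.map_eq_one_iff])).symm
    have hfiber : Nat.card {y' : Y // π y' = π ⟨⟨u, hu⟩, v⟩} =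
        Nat.card K * Nat.card {v : Subgroup.centralizer {u} // v ^ r = 1} := by
      have h1 : Nat.card {y' : Y // π y' = π ⟨⟨u, hu⟩, v⟩} =
          Nat.card (Σ u' : K, {v : Subgroup.centralizer {u'.1} // v ^ r = 1}) := Nat.card_congr
        { toFun := fun y' => ⟨⟨y'.1.1.1, y'.2⟩, y'.1.2⟩
          invFun := fun x => ⟨⟨⟨x.1.1, hKU x.1⟩, x.2⟩, x.1.2⟩
          left_inv := fun _ => rfl
          right_inv := fun _ => rfl }
      rw [h1, Nat.card_sigma, Finset.sum_congr rfl (fun u' _ => hcentr u'), Finset.sum_const, smul_eq_mul,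
        Finset.card_univ, ← Nat.card_eq_fintype_card]
    rw [hfiber]
    let C := Subgroup.centralizer ({u} : Set G)
    have hKC : Nat.card K * Nat.card C = n := by
      have horb : Nat.card K = (MulAction.orbit (ConjAct G) u).ncard := by
        rw [← Nat.card_coe_set_eq]
        refine Nat.card_congr (Equiv.subtypeEquivRight fun x => ?_)
        rw [ConjAct.mem_orbit_conjAct, ConjClasses.mk_eq_mk_iff_isConj]
      rw [horb, ← hG, ← MulAction.index_stabilizer, ConjAct.stabilizer_eq_centralizer]
      exact Subgroup.index_mul_card (Subgroup.centralizer ({u} : Set G))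
    let W : Subgroup C := Subgroup.zpowers ⟨u, Subgroup.mem_centralizer_singleton_iff.mpr rfl⟩
    have hWc : W ≤ Subgroup.center C := Subgroup.zpowers_le.mpr (Subgroup.mem_center_iff.mpr fun c =>
      Subtype.ext (Subgroup.mem_centralizer_singleton_iff.mp c.2))
    haveI : W.Normal := ⟨fun x hx c => by rw [Subgroup.mem_center_iff.mp (hWc hx) c, mul_inv_cancel_right]; exact hx⟩
    have hW : Nat.card W = P := by
      rw [Nat.card_zpowers, ← Subgroup.orderOf_coe]; exact hu
    have hP1 : 1 < P := Nat.one_lt_pow (Nat.succ_ne_zero a) hp.one_lt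
    have hQ : Nat.card (C ⧸ W) * P = Nat.card C := by
      rw [← hW, ← Subgroup.index_eq_card, Subgroup.index_mul_card]
    have hlt : Nat.card (C ⧸ W) < n := by
      have h1 : Nat.card (C ⧸ W) < Nat.card C := by
        rw [← hQ]; exact lt_mul_of_one_lt_right Nat.card_pos hP1
      exact h1.trans_le (hKC ▸ Nat.le_mul_of_pos_left _ (Nat.card_pos (α := K)))
    have hlift : Nat.card {v : C // v ^ r = 1} = Nat.card {x : C ⧸ W // x ^ (Nat.gcd r (Nat.card (C ⧸ W))) = 1} := by
      have hiff : ∀ x : C ⧸ W, x ^ (Nat.gcd r (Nat.card (C ⧸ W))) = 1 ↔ x ^ r = 1 := fun x =>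
        ⟨fun h => (pow_gcd_eq_one.mp h).1, fun h => pow_gcd_eq_one.mpr ⟨h, pow_card_eq_one'⟩⟩
      refine Nat.card_eq_of_bijective
        (fun v => (⟨(v.1 : C ⧸ W), (hiff _).mpr (by rw [← QuotientGroup.mk_pow, v.2]; rfl)⟩ :
          {x : C ⧸ W // x ^ (Nat.gcd r (Nat.card (C ⧸ W))) = 1})) ⟨fun v v' h => ?_, fun x => ?_⟩
      · have h' := QuotientGroup.eq.mp (congrArg Subtype.val h)
        have hcomm : Commute v.1⁻¹ v'.1 := by
          have hc' : Commute v.1⁻¹ (v.1⁻¹ * v'.1) := Subgroup.mem_center_iff.mp (hWc h') v.1⁻¹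
          simpa using (Commute.refl v.1⁻¹).inv_right.mul_right hc'
        have hz1 : (v.1⁻¹ * v'.1) ^ r = 1 := by rw [hcomm.mul_pow, inv_pow, v.2, v'.2, inv_one, one_mul]
        have hz2 : (v.1⁻¹ * v'.1) ^ P = 1 := by
          rw [← hW]
          exact congrArg Subtype.val (pow_card_eq_one' (x := (⟨_, h'⟩ : W)))
        have hz := pow_gcd_eq_one.mpr ⟨hz1, hz2⟩
        rw [Nat.Coprime.gcd_eq_one hco.symm, pow_one] at hz
        exact Subtype.ext (inv_mul_eq_one.mp hz)
      · obtain ⟨x, hx⟩ := x
        obtain ⟨w, rfl⟩ := QuotientGroup.mk'_surjective W x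
        have hwr : w ^ r ∈ W := (QuotientGroup.eq_one_iff _).mp ((hiff _).mp hx)
        obtain ⟨z, hz⟩ := (powCoprime (hW ▸ hco : (Nat.card W).Coprime r)).surjective ⟨_, hwr⟩
        have hz' : (z : C) ^ r = w ^ r := congrArg Subtype.val hz
        refine ⟨⟨w * (z : C)⁻¹, ?_⟩, Subtype.ext ?_⟩
        · have hcm : Commute w (z : C)⁻¹ := (show Commute w (z : C) from Subgroup.mem_center_iff.mp (hWc z.2) w).inv_right
          rw [hcm.mul_pow, inv_pow, hz', mul_inv_cancel]
        · exact QuotientGroup.eq.mpr (by simpa using z.2)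
    rw [hlift]
    have hIH := ihn _ hlt (C ⧸ W) rfl _ (Nat.gcd_dvd_right r (Nat.card (C ⧸ W)))
    refine dvd_trans ?_ (mul_dvd_mul_left (Nat.card K) hIH)
    have hgcd : Nat.gcd r (Nat.card (C ⧸ W)) = Nat.gcd r (Nat.card C) := by
      rw [← hQ, Nat.Coprime.gcd_mul_right_cancel_right _ hco]
    rw [hgcd, ← Nat.gcd_mul_left, hKC]
    refine Nat.dvd_gcd (dvd_mul_left _ _) ?_
    rw [← hme]
    exact (dvd_mul_left r (p ^ a)).trans (dvd_mul_right _ _)

end Cfsg.Agent.Solv
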