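import Cfsg.Agent.Solv.Glauberman

/-! Invariant Sylow subgroups under coprime action (general case). -/

set_option autoImplicit false
set_option linter.style.haveILetI false
open Pointwise

universe u

namespace Cfsg.Agent.Solv

variable {G : Type u} [Group G]

/-- The Sylow `p`-subgroups of `K`, as subgroups of `G`. -/
def SylowSub (K : Subgroup G) (p : ℕ) : Type u :=
  {S : Subgroup G // S ≤ K ∧ Nat.card S = p ^ (Nat.card K).factorization p}

theorem sylowSub_smul (K : Subgroup G) (p : ℕ) (n : Subgroup.normalizer (K : Set G))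
    (S : SylowSub K p) :
    MulAut.conj (n : G) • S.1 ≤ K ∧
      Nat.card ↥(MulAut.conj (n : G) • S.1) = p ^ (Nat.card K).factorization p := by
  refine ⟨?_, ?_⟩
  · exact (Subgroup.pointwise_smul_le_pointwise_smul_iff.mpr S.2.1).trans (conj_of_mem_normalizer n.2).le
  · rw [conj_smul_eq_map, Subgroup.card_map_of_injective (MulEquiv.injective _)]
    exact S.2.2

noncomputable instance sylowSubAction (K : Subgroup G) (p : ℕ) :
    MulAction (Subgroup.normalizer (K : Set G)) (SylowSub K p) where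
  smul n S := ⟨MulAut.conj (n : G) • S.1, sylowSub_smul K p n S⟩
  one_smul S := Subtype.ext (by show MulAut.conj ((1 : G)) • S.1 = S.1; rw [map_one, one_smul])
  mul_smul a b S := Subtype.ext (by
    show MulAut.conj ((a : G) * b) • S.1 = MulAut.conj (a : G) • MulAut.conj (b : G) • S.1
    rw [map_mul, mul_smul])

theorem sylowSub_nonempty [Finite G] (K : Subgroup G) (p : ℕ) [Fact p.Prime] :
    Nonempty (SylowSub K p) := by
  obtain ⟨P⟩ : Nonempty (Sylow p K) := inferInstance
  exact ⟨⟨(P : Subgroup K).map K.subtype, Subgroup.map_subtype_le _, by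
    rw [Subgroup.card_map_of_injective K.subtype_injective, P.card_eq_multiplicity]⟩⟩

theorem sylowSub_trans [Finite G] {K : Subgroup G} {p : ℕ} [Fact p.Prime] (S T : SylowSub K p) :
    ∃ k ∈ K.subgroupOf (Subgroup.normalizer (K : Set G)), k • S = T := by
  have hc : ∀ U : SylowSub K p, Nat.card (U.1.subgroupOf K) = p ^ (Nat.card K).factorization p :=
    fun U => (Nat.card_congr (Subgroup.subgroupOfEquivOfLe U.2.1).toEquiv).trans U.2.2
  obtain ⟨g, hg⟩ := MulAction.exists_smul_eq K (Sylow.ofCard _ (hc S)) (Sylow.ofCard _ (hc T))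
  refine ⟨⟨g, Subgroup.le_normalizer g.2⟩, g.2, Subtype.ext ?_⟩
  exact conj_of_conj_subgroupOf S.2.1 T.2.1 (congrArg Sylow.toSubgroup hg)

theorem coprime_setup [Finite G] {A K : Subgroup G} (hAK : A ≤ Subgroup.normalizer (K : Set G))
    (hcop : (Nat.card A).Coprime (Nat.card K)) (hsolv : Group.IsSolvable A ∨ Group.IsSolvable K) :
    A.subgroupOf (Subgroup.normalizer (K : Set G)) ≤
        Subgroup.normalizer ((K.subgroupOf (Subgroup.normalizer (K : Set G)) :
          Subgroup (Subgroup.normalizer (K : Set G))) : Set (Subgroup.normalizer (K : Set G))) ∧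
      (Nat.card (A.subgroupOf (Subgroup.normalizer (K : Set G)))).Coprime
        (Nat.card (K.subgroupOf (Subgroup.normalizer (K : Set G)))) ∧
      (Group.IsSolvable (A.subgroupOf (Subgroup.normalizer (K : Set G))) ∨
        Group.IsSolvable (K.subgroupOf (Subgroup.normalizer (K : Set G)))) := by
  haveI hn : (K.subgroupOf (Subgroup.normalizer (K : Set G))).Normal :=
    (Subgroup.normal_subgroupOf_iff_le_normalizer Subgroup.le_normalizer).mpr le_rfl
  refine ⟨le_top.trans (Subgroup.normalizer_eq_top_iff.mpr hn).ge, ?_, ?_⟩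
  · rwa [Nat.card_congr (Subgroup.subgroupOfEquivOfLe hAK).toEquiv,
      Nat.card_congr (Subgroup.subgroupOfEquivOfLe Subgroup.le_normalizer).toEquiv]
  · rcases hsolv with h | h
    · left
      haveI := h
      exact Group.isSolvable_of_isSolvable_injective
        (f := (Subgroup.subgroupOfEquivOfLe hAK).toMonoidHom) (Subgroup.subgroupOfEquivOfLe hAK).injective
    · right
      haveI := h
      exact Group.isSolvable_of_isSolvable_injective
        (f := (Subgroup.subgroupOfEquivOfLe (Subgroup.le_normalizer (H := K))).toMonoidHom)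
        (Subgroup.subgroupOfEquivOfLe (Subgroup.le_normalizer (H := K))).injective

theorem invariant_sylow [Finite G] {A K : Subgroup G} (hAK : A ≤ Subgroup.normalizer (K : Set G))
    (hcop : (Nat.card A).Coprime (Nat.card K)) (hsolv : Group.IsSolvable A ∨ Group.IsSolvable K)
    (p : ℕ) [Fact p.Prime] :
    ∃ P : Sylow p K, A ≤ Subgroup.normalizer (((P : Subgroup K).map K.subtype : Subgroup G) : Set G) := by
  obtain ⟨h1, h2, h3⟩ := coprime_setup hAK hcop hsolv
  haveI := sylowSub_nonempty K p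
  obtain ⟨S, hS⟩ := glauberman_fixed (X := SylowSub K p) h1 h2 h3 sylowSub_trans
  refine ⟨Sylow.ofCard (S.1.subgroupOf K)
    ((Nat.card_congr (Subgroup.subgroupOfEquivOfLe S.2.1).toEquiv).trans S.2.2), fun a ha => ?_⟩
  show a ∈ Subgroup.normalizer (((S.1.subgroupOf K).map K.subtype : Subgroup G) : Set G)
  rw [Subgroup.map_subgroupOf_eq_of_le S.2.1]
  exact mem_normalizer_of_conj (congrArg Subtype.val (hS ⟨a, hAK ha⟩ ha))

theorem invariant_sylow_conj [Finite G] {A K : Subgroup G} (hAK : A ≤ Subgroup.normalizer (K : Set G))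
    (hcop : (Nat.card A).Coprime (Nat.card K)) (hsolv : Group.IsSolvable A ∨ Group.IsSolvable K)
    (p : ℕ) [Fact p.Prime] (P Q : Sylow p K)
    (hP : A ≤ Subgroup.normalizer (((P : Subgroup K).map K.subtype : Subgroup G) : Set G))
    (hQ : A ≤ Subgroup.normalizer (((Q : Subgroup K).map K.subtype : Subgroup G) : Set G)) :
    ∃ c : K, (c : G) ∈ Subgroup.centralizer (A : Set G) ∧ MulAut.conj c • (P : Subgroup K) = Q := by
  obtain ⟨h1, h2, h3⟩ := coprime_setup hAK hcop hsolv
  let mk : Sylow p K → SylowSub K p := fun R => ⟨(R : Subgroup K).map K.subtype,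
    Subgroup.map_subtype_le _, by rw [Subgroup.card_map_of_injective K.subtype_injective, R.card_eq_multiplicity]⟩
  obtain ⟨c, hc, hce⟩ := glauberman_conj (x := mk P) (y := mk Q) h1 h2 h3 (sylowSub_trans _ _)
    (fun a ha => Subtype.ext (conj_of_mem_normalizer (hP ha)))
    (fun a ha => Subtype.ext (conj_of_mem_normalizer (hQ ha)))
  refine ⟨⟨c.1, hc.1⟩, ?_, ?_⟩
  · rw [Subgroup.mem_centralizer_iff]
    intro a ha
    exact congrArg Subtype.val (Subgroup.mem_centralizer_iff.mp hc.2 ⟨a, hAK ha⟩ ha)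
  · apply Subgroup.map_injective K.subtype_injective
    have := congrArg Subtype.val hce
    change MulAut.conj (c : G) • (P : Subgroup K).map K.subtype = (Q : Subgroup K).map K.subtype at this
    rw [← this, conj_smul_eq_map, conj_smul_eq_map, Subgroup.map_map, Subgroup.map_map]
    rfl

theorem invariant_sylow_ge [Finite G] {A K : Subgroup G} (hAK : A ≤ Subgroup.normalizer (K : Set G))
    (hcop : (Nat.card A).Coprime (Nat.card K)) (hsolv : Group.IsSolvable A ∨ Group.IsSolvable K)
    (p : ℕ) [Fact p.Prime] {U : Subgroup G} (hUK : U ≤ K) (hU : IsPGroup p U)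
    (hUA : A ≤ Subgroup.normalizer (U : Set G)) :
    ∃ P : Sylow p K, U ≤ (P : Subgroup K).map K.subtype ∧
      A ≤ Subgroup.normalizer (((P : Subgroup K).map K.subtype : Subgroup G) : Set G) := by
  obtain ⟨M, ⟨hM1, hM2, hM3, hM4⟩, hmax⟩ := (Set.toFinite {M : Subgroup G | U ≤ M ∧ M ≤ K ∧ IsPGroup p M ∧
    A ≤ Subgroup.normalizer (M : Set G)}).exists_maximal ⟨U, le_rfl, hUK, hU, hUA⟩
  obtain ⟨L, hL⟩ : ∃ L, L = K ⊓ Subgroup.normalizer (M : Set G) := ⟨_, rfl⟩
  have hAL : A ≤ Subgroup.normalizer (L : Set G) := by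
    intro a ha
    apply mem_normalizer_of_conj
    rw [hL, Subgroup.smul_inf, conj_of_mem_normalizer (hAK ha),
      conj_of_mem_normalizer (H := Subgroup.normalizer (M : Set G)) (Subgroup.le_normalizer (hM4 ha))]
  have hLK : L ≤ K := hL ▸ inf_le_left
  obtain ⟨Q, hQ⟩ := invariant_sylow hAL (hcop.coprime_dvd_right (Subgroup.card_dvd_of_le hLK))
    (hsolv.imp_right fun h => by
      haveI := h
      exact Group.isSolvable_of_isSolvable_injective (Subgroup.inclusion_injective hLK)) p
  have hML : M ≤ L := hL ▸ le_inf hM2 Subgroup.le_normalizer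
  haveI hMn : (M.subgroupOf L).Normal :=
    (Subgroup.normal_subgroupOf_iff_le_normalizer hML).mpr (hL ▸ inf_le_right)
  have hMp : IsPGroup p ↥(M.subgroupOf L) := hM3.comap_subtype
  have hMQ : M.subgroupOf L ≤ (Q : Subgroup L) :=
    le_sup_left.trans (Q.is_maximal' (hMp.to_sup_of_normal_left Q.isPGroup') le_sup_right).le
  have hMQ' : M ≤ (Q : Subgroup L).map L.subtype := by
    rw [← Subgroup.map_subgroupOf_eq_of_le hML]
    exact Subgroup.map_mono hMQ
  have hQM : (Q : Subgroup L).map L.subtype ≤ M :=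
    hmax ⟨hM1.trans hMQ', (Subgroup.map_subtype_le _).trans hLK, Q.isPGroup'.map _, hQ⟩ hMQ'
  obtain ⟨S, hS⟩ := (hM3.comap_subtype (K := K)).exists_le_sylow
  have hSeq : M.subgroupOf K = (S : Subgroup K) := by
    by_contra hne
    obtain ⟨T, hT⟩ : ∃ T : Subgroup S, T = (M.subgroupOf K).subgroupOf S := ⟨_, rfl⟩
    haveI := S.isPGroup'.isNilpotent
    have hT1 : T < ⊤ := by
      rw [lt_top_iff_ne_top, hT, Ne, Subgroup.subgroupOf_eq_top]
      exact fun h => hne (le_antisymm hS h)
    obtain ⟨s, hsN, hsT⟩ := SetLike.exists_of_lt (Group.normalizerCondition_of_isNilpotent T hT1)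
    rw [hT, Subgroup.mem_subgroupOf, Subgroup.mem_subgroupOf] at hsT
    have hMS : ∀ {z : G}, z ∈ M → ∃ w : S, ((w : K) : G) = z := fun {z} hz =>
      ⟨⟨⟨z, hM2 hz⟩, hS hz⟩, rfl⟩
    have hsM : ((s : K) : G) ∈ Subgroup.normalizer (M : Set G) := by
      apply mem_normalizer_of_conj
      apply Subgroup.eq_of_le_of_card_ge
      · intro z hz
        rw [mem_conj_smul] at hz
        obtain ⟨w, hw⟩ := hMS hz
        have hwT : w ∈ T := by rw [hT, Subgroup.mem_subgroupOf, Subgroup.mem_subgroupOf, hw]; exact hz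
        have h := (Subgroup.mem_normalizer_iff.mp hsN w).mp hwT
        rw [hT, Subgroup.mem_subgroupOf, Subgroup.mem_subgroupOf] at h
        simp only [Subgroup.coe_mul, Subgroup.coe_inv, hw] at h
        simpa [mul_assoc] using h
      · rw [conj_smul_eq_map, Subgroup.card_map_of_injective (MulEquiv.injective _)]
    have hsL : ((s : K) : G) ∈ L := hL ▸ ⟨(s : K).2, hsM⟩
    obtain ⟨W, hW⟩ : ∃ W, W = M ⊔ Subgroup.zpowers ((s : K) : G) := ⟨_, rfl⟩
    have hWL : W ≤ L := hW ▸ sup_le hML (Subgroup.zpowers_le.mpr hsL)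
    have hWp : IsPGroup p W := by
      refine ((S.isPGroup').map K.subtype).to_le (hW ▸ sup_le (fun z hz => ?_) ?_)
      · exact ⟨⟨z, hM2 hz⟩, hS hz, rfl⟩
      · exact Subgroup.zpowers_le.mpr ⟨(s : K), s.2, rfl⟩
    obtain ⟨R, hR⟩ := (hWp.comap_subtype (K := L)).exists_le_sylow
    have hcardR : Nat.card R = Nat.card Q := by rw [R.card_eq_multiplicity, Q.card_eq_multiplicity]
    have hlt : Nat.card M < Nat.card W := by
      by_contra hle
      apply hsT
      rw [Subgroup.eq_of_le_of_card_ge (hW ▸ le_sup_left : M ≤ W) (Nat.le_of_not_lt hle), hW]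
      exact Subgroup.mem_sup_right (Subgroup.mem_zpowers _)
    have h1 : Nat.card W ≤ Nat.card R := by
      rw [← Nat.card_congr (Subgroup.subgroupOfEquivOfLe hWL).toEquiv]
      exact Subgroup.card_le_of_le hR
    have h2 : Nat.card Q ≤ Nat.card M := by
      rw [← Subgroup.card_map_of_injective L.subtype_injective]
      exact Subgroup.card_le_of_le hQM
    omega
  have hSM : (S : Subgroup K).map K.subtype = M := by
    rw [← hSeq, Subgroup.map_subgroupOf_eq_of_le hM2]
  exact ⟨S, hSM.symm ▸ hM1, hSM.symm ▸ hM4⟩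

end Cfsg.Agent.Solv
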