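import Cfsg.Agent.Solv.Glauberman
import Mathlib.GroupTheory.Commutator.Basic

/-! `K = [K,A] C_K(A)` under coprime action. -/

set_option autoImplicit false
set_option linter.style.haveILetI false
open Pointwise commutatorElement

universe u

namespace Cfsg.Agent.Solv

variable {G : Type u} [Group G]

theorem commutator_sup_centralizer [Finite G] {A K : Subgroup G}
    (hAK : A ≤ Subgroup.normalizer (K : Set G))
    (hcop : (Nat.card A).Coprime (Nat.card K)) (hsolv : Group.IsSolvable A ∨ Group.IsSolvable K) :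
    ⁅K, A⁆ ⊔ (K ⊓ Subgroup.centralizer (A : Set G)) = K := by
  have hle : ⁅K, A⁆ ≤ K := Subgroup.le_normalizer_iff_commutator_le_left.mp hAK
  refine le_antisymm (sup_le hle inf_le_left) fun k hk => ?_
  obtain ⟨n, hn, hc⟩ := fix_coset (A := A) (N := ⁅K, A⁆) (Subgroup.normalizer_commutator_ge_right K A)
    (hcop.coprime_dvd_right (Subgroup.card_dvd_of_le hle))
    (hsolv.imp_right fun h => by
      haveI := h
      exact Group.isSolvable_of_isSolvable_injective (Subgroup.inclusion_injective hle))
    (k := k) (fun a ha => Subgroup.commutator_mem_commutator hk ha)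
  rw [show k = n⁻¹ * (n * k) by group]
  exact mul_mem (Subgroup.mem_sup_left (inv_mem hn))
    (Subgroup.mem_sup_right ⟨mul_mem (hle hn) hk, hc⟩)

theorem commutator_commutator_right [Finite G] {A K : Subgroup G}
    (hAK : A ≤ Subgroup.normalizer (K : Set G))
    (hcop : (Nat.card A).Coprime (Nat.card K)) (hsolv : Group.IsSolvable A ∨ Group.IsSolvable K) :
    ⁅⁅K, A⁆, A⁆ = ⁅K, A⁆ := by
  refine le_antisymm
    (Subgroup.le_normalizer_iff_commutator_le_left.mp (Subgroup.normalizer_commutator_ge_right K A)) ?_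
  rw [Subgroup.commutator_le]
  intro k hk a ha
  have hle : ⁅K, A⁆ ≤ K := Subgroup.le_normalizer_iff_commutator_le_left.mp hAK
  obtain ⟨n, hn, hc⟩ := fix_coset (A := A) (N := ⁅K, A⁆) (Subgroup.normalizer_commutator_ge_right K A)
    (hcop.coprime_dvd_right (Subgroup.card_dvd_of_le hle))
    (hsolv.imp_right fun h => by
      haveI := h
      exact Group.isSolvable_of_isSolvable_injective (Subgroup.inclusion_injective hle))
    (k := k) (fun a ha => Subgroup.commutator_mem_commutator hk ha)
  have hca : a * (n * k) = (n * k) * a := Subgroup.mem_centralizer_iff.mp hc a ha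
  have e : ⁅k, a⁆ = ⁅n⁻¹, a⁆ := by
    rw [commutatorElement_def, commutatorElement_def, inv_inv]
    calc k * a * k⁻¹ * a⁻¹ = n⁻¹ * ((n * k) * a) * k⁻¹ * a⁻¹ := by group
      _ = n⁻¹ * (a * (n * k)) * k⁻¹ * a⁻¹ := by rw [hca]
      _ = n⁻¹ * a * n * a⁻¹ := by group
  rw [e]
  exact Subgroup.commutator_mem_commutator (inv_mem hn) ha

end Cfsg.Agent.Solv
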