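import Cfsg.Agent.Solv.SchurZassenhaus
import Mathlib.GroupTheory.Subgroup.Centralizer

/-! Glauberman's lemma and its coset form. -/

set_option autoImplicit false
set_option linter.style.haveILetI false
open Pointwise

universe u v

namespace Cfsg.Agent.Solv

variable {G : Type u} [Group G]

/-- Complements of a normalised coprime subgroup are conjugate by it. -/
theorem conj_complements [Finite G] {A B N : Subgroup G}
    (hA : A ≤ Subgroup.normalizer (N : Set G)) (hB : B ≤ Subgroup.normalizer (N : Set G))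
    (he : A ⊔ N = B ⊔ N) (hAc : (Nat.card A).Coprime (Nat.card N))
    (hBc : (Nat.card B).Coprime (Nat.card N))
    (hsolv : Group.IsSolvable A ∨ Group.IsSolvable N) : ∃ n ∈ N, MulAut.conj n • A = B := by
  obtain ⟨L, hL⟩ : ∃ L, L = A ⊔ N := ⟨_, rfl⟩
  have hAL : A ≤ L := hL ▸ le_sup_left
  have hNL : N ≤ L := hL ▸ le_sup_right
  have hBL : B ≤ L := hL ▸ he ▸ le_sup_left
  haveI hn : (N.subgroupOf L).Normal :=
    (Subgroup.normal_subgroupOf_iff_le_normalizer hNL).mpr
      (hL ▸ sup_le hA Subgroup.le_normalizer)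
  have hcN := Nat.card_congr (Subgroup.subgroupOfEquivOfLe hNL).toEquiv
  have hcop : (Nat.card (N.subgroupOf L)).Coprime (N.subgroupOf L).index := by
    rw [hcN]
    show (Nat.card N).Coprime (N.relIndex L)
    rw [hL, sup_comm]
    have h1 : N.relIndex (N ⊔ A) ∣ Nat.card A := by
      have hsup : A.subgroupOf L ⊔ N.subgroupOf L = ⊤ := by
        rw [← Subgroup.subgroupOf_sup hAL hNL, ← hL, Subgroup.subgroupOf_self]
      have h2 : (N.subgroupOf L).index = (N.subgroupOf L).relIndex (A.subgroupOf L) := by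
        rw [← Subgroup.relIndex_top_right, ← hsup, Subgroup.relIndex_sup_right]
      have h3 : (N.subgroupOf L).index ∣ Nat.card A := by
        rw [h2, ← Nat.card_congr (Subgroup.subgroupOfEquivOfLe hAL).toEquiv]
        exact Subgroup.relIndex_dvd_card _ _
      subst hL
      rw [sup_comm]
      exact h3
    exact hAc.symm.coprime_dvd_right h1
  have mk : ∀ S : Subgroup G, S ≤ L → S ⊔ N = L → (Nat.card S).Coprime (Nat.card N) →
      S.subgroupOf L ⊔ N.subgroupOf L = ⊤ ∧
        (Nat.card (S.subgroupOf L)).Coprime (Nat.card (N.subgroupOf L)) := by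
    intro S hS hSe hSc
    refine ⟨?_, ?_⟩
    · rw [← Subgroup.subgroupOf_sup hS hNL, hSe, Subgroup.subgroupOf_self]
    · rwa [hcN, Nat.card_congr (Subgroup.subgroupOfEquivOfLe hS).toEquiv]
  obtain ⟨ha1, ha2⟩ := mk A hAL hL.symm hAc
  obtain ⟨hb1, hb2⟩ := mk B hBL (he.symm.trans hL.symm) hBc
  have hs : Group.IsSolvable (N.subgroupOf L) ∨ Group.IsSolvable (L ⧸ N.subgroupOf L) := by
    rcases hsolv with h | h
    · right
      haveI := h
      refine Group.isSolvable_of_surjective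
        (f := (QuotientGroup.mk' (N.subgroupOf L)).comp (Subgroup.inclusion hAL)) fun y => ?_
      obtain ⟨x, rfl⟩ := QuotientGroup.mk'_surjective _ y
      obtain ⟨a, ha, n, hn', he'⟩ := Subgroup.mem_sup_of_normal_right.mp
        (ha1.symm ▸ Subgroup.mem_top x : x ∈ A.subgroupOf L ⊔ N.subgroupOf L)
      refine ⟨⟨(a : G), ha⟩, ?_⟩
      rw [← he', map_mul, (show QuotientGroup.mk' (N.subgroupOf L) n = 1 from
        (QuotientGroup.eq_one_iff n).mpr hn'), mul_one]
      rfl
    · left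
      haveI := h
      exact Group.isSolvable_of_isSolvable_injective
        (f := (Subgroup.subgroupOfEquivOfLe hNL).toMonoidHom)
        (Subgroup.subgroupOfEquivOfLe hNL).injective
  obtain ⟨n, hn', hne⟩ := sz_conj (N.subgroupOf L) hcop hs ha1 ha2 hb1 hb2
  exact ⟨n, hn', conj_of_conj_subgroupOf hAL hBL hne⟩

/-- If `A` normalises a coprime `N` and fixes the coset `N * k`, some element of it centralises `A`. -/
theorem fix_coset [Finite G] {A N : Subgroup G} (hA : A ≤ Subgroup.normalizer (N : Set G))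
    (hc : (Nat.card A).Coprime (Nat.card N)) (hsolv : Group.IsSolvable A ∨ Group.IsSolvable N)
    {k : G} (hk : ∀ a ∈ A, k * a * k⁻¹ * a⁻¹ ∈ N) :
    ∃ n ∈ N, n * k ∈ Subgroup.centralizer (A : Set G) := by
  obtain ⟨B, hB⟩ : ∃ B, B = MulAut.conj k • A := ⟨_, rfl⟩
  have hBe : ∀ a ∈ A, k * a * k⁻¹ ∈ A ⊔ N := by
    intro a ha
    have : k * a * k⁻¹ = (k * a * k⁻¹ * a⁻¹) * a := by group
    rw [this]
    exact mul_mem (Subgroup.mem_sup_right (hk a ha)) (Subgroup.mem_sup_left ha)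
  have hBle : B ≤ A ⊔ N := by
    intro b hb
    rw [hB, mem_conj_smul] at hb
    simpa [mul_assoc] using hBe _ hb
  have hAle : A ≤ B ⊔ N := by
    intro a ha
    have hkb : k * a * k⁻¹ ∈ B := by rw [hB, mem_conj_smul]; simpa [mul_assoc] using ha
    have : a = (k * a * k⁻¹ * a⁻¹)⁻¹ * (k * a * k⁻¹) := by group
    rw [this]
    exact mul_mem (Subgroup.mem_sup_right (inv_mem (hk a ha))) (Subgroup.mem_sup_left hkb)
  have hBn : B ≤ Subgroup.normalizer (N : Set G) := hBle.trans (sup_le hA Subgroup.le_normalizer)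
  have hBc : (Nat.card B).Coprime (Nat.card N) := by
    rwa [hB, conj_smul_eq_map, Subgroup.card_map_of_injective (MulEquiv.injective _)]
  obtain ⟨m, hm, hme⟩ := conj_complements hA hBn
    (le_antisymm (sup_le hAle le_sup_right) (sup_le hBle le_sup_right)) hc hBc hsolv
  refine ⟨m⁻¹, inv_mem hm, ?_⟩
  have hfix : MulAut.conj (m⁻¹ * k) • A = A := by
    rw [map_mul, mul_smul, map_inv, inv_smul_eq_iff, hme, hB]
  rw [Subgroup.mem_centralizer_iff]
  intro a ha
  have h1 : (m⁻¹ * k) * a * (m⁻¹ * k)⁻¹ * a⁻¹ ∈ A :=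
    mul_mem ((Subgroup.mem_normalizer_iff.mp (mem_normalizer_of_conj hfix) a).mp ha) (inv_mem ha)
  have h2 : (m⁻¹ * k) * a * (m⁻¹ * k)⁻¹ * a⁻¹ ∈ N := by
    have e : (m⁻¹ * k) * a * (m⁻¹ * k)⁻¹ * a⁻¹ = m⁻¹ * (k * a * k⁻¹ * a⁻¹) * (a * m * a⁻¹) := by
      group
    rw [e]
    exact mul_mem (mul_mem (inv_mem hm) (hk a ha)) ((Subgroup.mem_normalizer_iff.mp (hA ha) m).mp hm)
  have := (Subgroup.disjoint_of_coprime_natCard hc).le_bot ⟨h1, h2⟩
  rw [Subgroup.mem_bot] at this
  calc a * (m⁻¹ * k) = ((m⁻¹ * k) * a * (m⁻¹ * k)⁻¹ * a⁻¹) * (a * (m⁻¹ * k)) := by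
        rw [this, one_mul]
    _ = (m⁻¹ * k) * a := by group

/-- Glauberman's lemma: a coprime group of operators fixes a point. -/
theorem glauberman_fixed [Finite G] {X : Type v} [MulAction G X] [Nonempty X] {A K : Subgroup G}
    (hA : A ≤ Subgroup.normalizer (K : Set G)) (hc : (Nat.card A).Coprime (Nat.card K))
    (hsolv : Group.IsSolvable A ∨ Group.IsSolvable K)
    (htrans : ∀ x y : X, ∃ k ∈ K, k • x = y) : ∃ x : X, ∀ a ∈ A, a • x = x := by
  obtain ⟨x₀⟩ := ‹Nonempty X›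
  obtain ⟨L, hL⟩ : ∃ L, L = (A ⊔ K) ⊓ MulAction.stabilizer G x₀ := ⟨_, rfl⟩
  have hLn : L ≤ Subgroup.normalizer (K : Set G) :=
    hL ▸ inf_le_left.trans (sup_le hA Subgroup.le_normalizer)
  haveI hKn : (K.subgroupOf L).Normal :=
    Subgroup.normal_subgroupOf_of_le_normalizer hLn
  have hdK : Nat.card (K.subgroupOf L) ∣ Nat.card K := by
    rw [← Subgroup.inf_subgroupOf_right,
      Nat.card_congr (Subgroup.subgroupOfEquivOfLe inf_le_right).toEquiv]
    exact Subgroup.card_dvd_of_le inf_le_left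
  have hsup : L ⊔ K = A ⊔ K := by
    refine le_antisymm (sup_le (hL ▸ inf_le_left) le_sup_right) (sup_le (fun a ha => ?_) le_sup_right)
    obtain ⟨k, hk, hke⟩ := htrans (a • x₀) x₀
    have : a = k⁻¹ * (k * a) := by group
    rw [this]
    refine mul_mem (Subgroup.mem_sup_right (inv_mem hk)) (Subgroup.mem_sup_left ?_)
    rw [hL]
    exact ⟨mul_mem (Subgroup.mem_sup_right hk) (Subgroup.mem_sup_left ha),
      by show (k * a) • x₀ = x₀; rw [mul_smul, hke]⟩
  have hdA : (K.subgroupOf L).index ∣ Nat.card A := by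
    have h1 : ∀ S : Subgroup G, S ≤ Subgroup.normalizer (K : Set G) → K.relIndex (S ⊔ K) = K.relIndex S := by
      intro S hS
      obtain ⟨W, hW⟩ : ∃ W, W = S ⊔ K := ⟨_, rfl⟩
      have hSW : S ≤ W := hW ▸ le_sup_left
      have hKW : K ≤ W := hW ▸ le_sup_right
      haveI : (K.subgroupOf W).Normal :=
        (Subgroup.normal_subgroupOf_iff_le_normalizer hKW).mpr (hW ▸ sup_le hS Subgroup.le_normalizer)
      rw [← hW, ← Subgroup.relIndex_subgroupOf (le_refl W), Subgroup.subgroupOf_self]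
      conv_lhs => rw [show (⊤ : Subgroup W) = S.subgroupOf W ⊔ K.subgroupOf W by
        rw [← Subgroup.subgroupOf_sup hSW hKW, ← hW, Subgroup.subgroupOf_self]]
      rw [Subgroup.relIndex_sup_right, Subgroup.relIndex_subgroupOf hSW]
    show K.relIndex L ∣ _
    rw [← h1 L hLn, hsup, h1 A hA]
    exact Subgroup.relIndex_dvd_card _ _
  obtain ⟨B', hB'⟩ := Subgroup.exists_right_complement'_of_coprime
    ((hc.symm.coprime_dvd_left hdK).coprime_dvd_right hdA)
  obtain ⟨B, hB⟩ : ∃ B, B = B'.map L.subtype := ⟨_, rfl⟩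
  have hBL : B ≤ L := hB ▸ Subgroup.map_subtype_le _
  have hBcard : Nat.card B ∣ Nat.card A := by
    rw [hB, Subgroup.card_map_of_injective L.subtype_injective,
      ← hB'.symm.index_eq_card]
    exact hdA
  have hBsup : B ⊔ K = A ⊔ K := by
    rw [← hsup]
    refine le_antisymm (sup_le (hBL.trans le_sup_left) le_sup_right) (sup_le (fun l hl => ?_) le_sup_right)
    obtain ⟨b, hb, k, hk, hbk⟩ := Subgroup.mem_sup_of_normal_right.mp
      (hB'.symm.sup_eq_top ▸ Subgroup.mem_top (⟨l, hl⟩ : L) : (⟨l, hl⟩ : L) ∈ B' ⊔ K.subgroupOf L)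
    rw [show l = (b : G) * (k : G) from (congrArg Subtype.val hbk).symm]
    exact Subgroup.mul_mem_sup (hB ▸ Subgroup.mem_map_of_mem _ hb) hk
  obtain ⟨k, hk, hke⟩ := conj_complements hA (hBL.trans hLn) hBsup.symm hc (hc.coprime_dvd_left hBcard) hsolv
  refine ⟨k⁻¹ • x₀, fun a ha => ?_⟩
  have : k * a * k⁻¹ ∈ B := by
    rw [← hke, mem_conj_smul]; simpa [mul_assoc] using ha
  have h3 := hBL this
  rw [hL] at h3
  have h2 : (k * a * k⁻¹) • x₀ = x₀ := h3.2
  rw [eq_inv_smul_iff, ← mul_smul, ← mul_smul]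
  exact h2

/-- Glauberman's lemma: the fixed points are conjugate under the fixed points of `K`. -/
theorem glauberman_conj [Finite G] {X : Type v} [MulAction G X] {A K : Subgroup G}
    (hA : A ≤ Subgroup.normalizer (K : Set G)) (hc : (Nat.card A).Coprime (Nat.card K))
    (hsolv : Group.IsSolvable A ∨ Group.IsSolvable K)
    {x y : X} (hxy : ∃ k ∈ K, k • x = y) (hx : ∀ a ∈ A, a • x = x) (hy : ∀ a ∈ A, a • y = y) :
    ∃ c ∈ K ⊓ Subgroup.centralizer (A : Set G), c • x = y := by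
  obtain ⟨k, hk, hke⟩ := hxy
  obtain ⟨n, hn, hnc⟩ := fix_coset (N := K ⊓ MulAction.stabilizer G y) (k := k) (A := A)
    (fun a ha => by
      rw [Subgroup.mem_normalizer_iff]
      intro g
      have h1 := Subgroup.mem_normalizer_iff.mp (hA ha) g
      have h2 : g • y = y ↔ (a * g * a⁻¹) • y = y := by
        have hinv : a⁻¹ • y = y := by rw [inv_smul_eq_iff, hy a ha]
        rw [mul_smul, mul_smul, hinv]
        constructor
        · intro h; rw [h, hy a ha]
        · intro h; exact smul_left_cancel a (h.trans (hy a ha).symm)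
      exact ⟨fun ⟨p, q⟩ => ⟨h1.mp p, h2.mp q⟩, fun ⟨p, q⟩ => ⟨h1.mpr p, h2.mpr q⟩⟩)
    (hc.coprime_dvd_right (Subgroup.card_dvd_of_le inf_le_left))
    (hsolv.imp_right fun h => by
      haveI := h
      exact Group.isSolvable_of_isSolvable_injective (Subgroup.inclusion_injective inf_le_left))
    (fun a ha => by
      refine ⟨?_, ?_⟩
      · have h1 := (Subgroup.mem_normalizer_iff.mp (hA ha) k⁻¹).mp (inv_mem hk)
        rw [show k * a * k⁻¹ * a⁻¹ = k * (a * k⁻¹ * a⁻¹) by group]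
        exact mul_mem hk h1
      · show (k * a * k⁻¹ * a⁻¹) • y = y
        have hinv : a⁻¹ • y = y := by rw [inv_smul_eq_iff, hy a ha]
        have hky : k⁻¹ • y = x := by rw [inv_smul_eq_iff, hke]
        rw [mul_smul, hinv, mul_smul, hky, mul_smul, hx a ha, hke])
  refine ⟨n * k, ⟨mul_mem hn.1 hk, hnc⟩, ?_⟩
  rw [mul_smul, hke]
  exact hn.2

end Cfsg.Agent.Solv
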