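import Cfsg.Agent.Solv.Glauberman

/-! Hall's theorems for finite solvable groups. -/

set_option autoImplicit false
set_option linter.style.haveILetI false
open Pointwise

universe u

namespace Cfsg.Agent.Solv

variable {G : Type u} [Group G]

theorem card_conj_smul (g : G) (H : Subgroup G) :
    Nat.card ↥(MulAut.conj g • H) = Nat.card H := by
  rw [conj_smul_eq_map, Subgroup.card_map_of_injective (MulEquiv.injective _)]

theorem card_comap_mk' [Finite G] (M : Subgroup G) [M.Normal] (S : Subgroup (G ⧸ M)) :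
    Nat.card ↥(S.comap (QuotientGroup.mk' M)) = Nat.card M * Nat.card S := by
  have hle : M ≤ S.comap (QuotientGroup.mk' M) := by
    conv_lhs => rw [← QuotientGroup.ker_mk' M]
    exact Subgroup.ker_le_comap _ S
  have h1 := Subgroup.relIndex_mul_relIndex ⊥ M (S.comap (QuotientGroup.mk' M)) bot_le hle
  rw [Subgroup.relIndex_bot_left, Subgroup.relIndex_bot_left] at h1
  rw [← h1]
  congr 1
  have h2 := Subgroup.relIndex_comap (⊥ : Subgroup (G ⧸ M)) (QuotientGroup.mk' M)
    (S.comap (QuotientGroup.mk' M))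
  rw [MonoidHom.comap_bot, QuotientGroup.ker_mk', Subgroup.relIndex_bot_left,
    Subgroup.map_comap_eq_self_of_surjective (QuotientGroup.mk'_surjective _)] at h2
  exact h2

/-- Hall's theorem: existence, and domination, of Hall subgroups. -/
theorem hall_exists_dominating [Finite G] [Group.IsSolvable G] {m n : ℕ}
    (hG : Nat.card G = m * n) (hmn : m.Coprime n) :
    ∃ H : Subgroup G, Nat.card H = m ∧
      ∀ K : Subgroup G, (Nat.card K).Coprime n → ∃ g : G, MulAut.conj g • K ≤ H := by
  suffices main : ∀ (N : ℕ) {G : Type u} [Group G] [Finite G], Group.IsSolvable G → Nat.card G ≤ N →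
      ∀ m n : ℕ, Nat.card G = m * n → m.Coprime n →
      ∃ H : Subgroup G, Nat.card H = m ∧
        ∀ K : Subgroup G, (Nat.card K).Coprime n → ∃ g : G, MulAut.conj g • K ≤ H from
    main _ inferInstance le_rfl m n hG hmn
  clear * -
  intro N
  induction N with
  | zero => intro G _ _ _ h; exact absurd h (Nat.not_le.mpr Nat.card_pos)
  | succ N ih =>
    intro G _ _ hs hcard m n hG hmn
    by_cases hm : m = 1
    · refine ⟨⊥, by simp [hm], fun K hK => ⟨1, ?_⟩⟩
      have hd : Nat.card K ∣ n := by simpa [hG, hm] using Subgroup.card_subgroup_dvd_card K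
      simp [Subgroup.eq_bot_of_card_eq K (Nat.eq_one_of_dvd_coprimes hK dvd_rfl hd)]
    have : Nontrivial G := by
      rw [← Finite.one_lt_card_iff_nontrivial, hG]
      have h0 : m * n ≠ 0 := hG ▸ Nat.card_pos.ne'
      rw [Nat.mul_ne_zero_iff] at h0
      calc 1 < m := by omega
        _ ≤ m * n := Nat.le_mul_of_pos_right _ (Nat.pos_of_ne_zero h0.2)
    obtain ⟨M, hMn, hM0, -, hMmin⟩ :=
      exists_minimal_normal (N := (⊤ : Subgroup G)) inferInstance top_ne_bot
    haveI := hMn
    obtain ⟨-, p, hp, -, hMp, -⟩ := minimal_normal_solvable hMn hM0 hMmin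
    haveI := Fact.mk hp
    obtain ⟨a, ha⟩ := IsPGroup.iff_card.mp hMp
    have ha0 : a ≠ 0 := fun h => hM0 (Subgroup.eq_bot_of_card_eq _ (by simp [ha, h]))
    let f := QuotientGroup.mk' M
    have hf : Function.Surjective f := QuotientGroup.mk'_surjective M
    haveI : Group.IsSolvable (G ⧸ M) := Group.isSolvable_of_surjective hf
    have hq : Nat.card M * Nat.card (G ⧸ M) = m * n := by rw [← hG]; exact M.card_mul_index
    have hlt : Nat.card (G ⧸ M) ≤ N := by
      have h2 : 2 ≤ Nat.card M := Subgroup.one_lt_card_iff_ne_bot _ |>.mpr hM0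
      have h4 : 0 < Nat.card (G ⧸ M) := Nat.card_pos
      nlinarith [hG, hq, hcard]
    have hdiv : p ∣ m * n := hq ▸ dvd_mul_of_dvd_left (ha ▸ dvd_pow_self p ha0) _
    rcases hp.dvd_mul.mp hdiv with hpm | hpn
    · have hcop : (p ^ a).Coprime n :=
        Nat.Coprime.pow_left a (hmn.coprime_dvd_left hpm)
      obtain ⟨m', hm'⟩ : p ^ a ∣ m := hcop.dvd_of_dvd_mul_right (hq ▸ ha ▸ dvd_mul_right _ _)
      have hq' : Nat.card (G ⧸ M) = m' * n := by
        rw [ha, hm', mul_assoc] at hq
        exact Nat.eq_of_mul_eq_mul_left (pow_pos hp.pos a) hq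
      obtain ⟨H', hH', hdom⟩ := ih inferInstance hlt m' n hq' (hmn.coprime_dvd_left ⟨p ^ a, by rw [hm']; ring⟩)
      refine ⟨H'.comap f, by rw [card_comap_mk', hH', ha, hm'], fun K hK => ?_⟩
      obtain ⟨q, hq''⟩ := hdom (K.map f) (hK.coprime_dvd_left (Subgroup.card_map_dvd _ _))
      obtain ⟨g, rfl⟩ := hf q
      refine ⟨g, ?_⟩
      rw [← Subgroup.map_le_iff_le_comap]
      refine le_trans (le_of_eq ?_) hq''
      rw [conj_smul_eq_map, conj_smul_eq_map, Subgroup.map_map, Subgroup.map_map]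
      rfl
    · have hcop : (p ^ a).Coprime m :=
        Nat.Coprime.pow_left a (hmn.symm.coprime_dvd_left hpn)
      obtain ⟨n', hn'⟩ : p ^ a ∣ n := hcop.dvd_of_dvd_mul_left (hq ▸ ha ▸ dvd_mul_right _ _)
      have hq' : Nat.card (G ⧸ M) = m * n' := by
        rw [ha, hn', mul_left_comm] at hq
        exact Nat.eq_of_mul_eq_mul_left (pow_pos hp.pos a) hq
      obtain ⟨H', hH', hdom⟩ := ih inferInstance hlt m n' hq' (hmn.coprime_dvd_right ⟨p ^ a, by rw [hn']; ring⟩)
      obtain ⟨L, hL⟩ : ∃ L, L = H'.comap f := ⟨_, rfl⟩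
      have hML : M ≤ L := fun x hx => by
        rw [hL, Subgroup.mem_comap, show f x = 1 from (QuotientGroup.eq_one_iff x).mpr hx]
        exact one_mem _
      have hLcard : Nat.card L = p ^ a * m := by rw [hL, card_comap_mk', hH', ha]
      have hcopML : (Nat.card (M.subgroupOf L)).Coprime (M.subgroupOf L).index := by
        have h1 := (M.subgroupOf L).card_mul_index
        rw [Nat.card_congr (Subgroup.subgroupOfEquivOfLe hML).toEquiv, hLcard, ha] at h1
        rw [Nat.card_congr (Subgroup.subgroupOfEquivOfLe hML).toEquiv, ha,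
          Nat.eq_of_mul_eq_mul_left (pow_pos hp.pos a) h1]
        exact hcop
      obtain ⟨C, hC⟩ := Subgroup.exists_right_complement'_of_coprime hcopML
      obtain ⟨H, hH⟩ : ∃ H, H = C.map L.subtype := ⟨_, rfl⟩
      have hHcard : Nat.card H = m := by
        have h1 := hC.card_mul
        rw [Nat.card_congr (Subgroup.subgroupOfEquivOfLe hML).toEquiv, hLcard, ha] at h1
        rw [hH, Subgroup.card_map_of_injective L.subtype_injective]
        exact Nat.eq_of_mul_eq_mul_left (pow_pos hp.pos a) h1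
      refine ⟨H, hHcard, fun K hK => ?_⟩
      obtain ⟨q, hq''⟩ := hdom (K.map f) ((hK.coprime_dvd_left (Subgroup.card_map_dvd _ _)).coprime_dvd_right ⟨p ^ a, by rw [hn']; ring⟩)
      obtain ⟨g, rfl⟩ := hf q
      obtain ⟨K₁, hK₁⟩ : ∃ K₁, K₁ = MulAut.conj g • K := ⟨_, rfl⟩
      have hK₁L : K₁ ≤ L := by
        rw [hK₁, hL, ← Subgroup.map_le_iff_le_comap]
        refine le_trans (le_of_eq ?_) hq''
        rw [conj_smul_eq_map, conj_smul_eq_map, Subgroup.map_map, Subgroup.map_map]
        rfl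
      have hHL : H ≤ L := hH ▸ Subgroup.map_subtype_le _
      have hLsup : H ⊔ M = L := by
        refine le_antisymm (sup_le hHL hML) fun l hl => ?_
        obtain ⟨y, hy, c, hc, hyc⟩ := Subgroup.mem_sup_of_normal_left.mp
          (hC.sup_eq_top ▸ Subgroup.mem_top (⟨l, hl⟩ : L) : (⟨l, hl⟩ : L) ∈ M.subgroupOf L ⊔ C)
        rw [show l = (y : G) * (c : G) from (congrArg Subtype.val hyc).symm]
        exact mul_mem (Subgroup.mem_sup_right hy)
          (Subgroup.mem_sup_left (hH ▸ Subgroup.mem_map_of_mem _ hc))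
      obtain ⟨B, hB⟩ : ∃ B, B = H ⊓ (K₁ ⊔ M) := ⟨_, rfl⟩
      have hBsup : K₁ ⊔ M = B ⊔ M := by
        refine le_antisymm (fun x hx => ?_) (sup_le (hB ▸ inf_le_right) le_sup_right)
        have hxL : x ∈ H ⊔ M := hLsup.symm ▸ (sup_le hK₁L hML) hx
        obtain ⟨y, hy, c, hc, rfl⟩ := Subgroup.mem_sup_of_normal_right.mp hxL
        refine Subgroup.mul_mem_sup ?_ hc
        rw [hB]
        exact ⟨hy, by simpa using mul_mem hx (inv_mem (Subgroup.mem_sup_right hc))⟩
      have hc1 : (Nat.card K₁).Coprime (Nat.card M) := by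
        rw [hK₁, card_conj_smul, ha]
        exact hK.coprime_dvd_right ⟨n', hn'⟩
      have hc2 : (Nat.card B).Coprime (Nat.card M) := by
        refine Nat.Coprime.coprime_dvd_left (Subgroup.card_dvd_of_le (hB ▸ inf_le_left : B ≤ H)) ?_
        rw [hHcard, ha]
        exact hcop.symm
      have hnorm : ∀ S : Subgroup G, S ≤ Subgroup.normalizer (M : Set G) := fun S => by
        rw [Subgroup.normalizer_eq_top_iff.mpr hMn]; exact le_top
      obtain ⟨y, hy, hye⟩ := conj_complements (hnorm K₁) (hnorm B) hBsup hc1 hc2 (Or.inr (hMp.isNilpotent |> fun h => by haveI := h; infer_instance))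
      refine ⟨y * g, ?_⟩
      rw [map_mul, mul_smul, ← hK₁, hye, hB]
      exact inf_le_left

theorem hall_conj [Finite G] [Group.IsSolvable G] {m n : ℕ}
    (hG : Nat.card G = m * n) (hmn : m.Coprime n) {H K : Subgroup G}
    (hH : Nat.card H = m) (hK : Nat.card K = m) : ∃ g : G, MulAut.conj g • H = K := by
  obtain ⟨S, hS, hdom⟩ := hall_exists_dominating hG hmn
  obtain ⟨a, ha⟩ := hdom H (hH ▸ hmn)
  obtain ⟨b, hb⟩ := hdom K (hK ▸ hmn)
  have ea := Subgroup.eq_of_le_of_card_ge ha (by rw [card_conj_smul, hH, hS])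
  have eb := Subgroup.eq_of_le_of_card_ge hb (by rw [card_conj_smul, hK, hS])
  refine ⟨b⁻¹ * a, ?_⟩
  rw [map_mul, mul_smul, ea, ← eb, map_inv, inv_smul_smul]

end Cfsg.Agent.Solv
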