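import Cfsg.Agent.Solv.Schmidt
import Cfsg.Agent.Solv.SchurZassenhaus

/-! Wielandt's theorem on nilpotent Hall subgroups. -/

set_option autoImplicit false
set_option linter.style.haveILetI false
open Pointwise

universe u

namespace Cfsg.Agent.Solv

variable {G : Type u} [Group G] [Finite G]

theorem card_conj' (g : G) (H : Subgroup G) : Nat.card (MulAut.conj g • H : Subgroup G) = Nat.card H := by
  rw [conj_smul_eq_map, Subgroup.card_map_of_injective (MulEquiv.injective _)]

theorem index_conj' (g : G) (H : Subgroup G) : (MulAut.conj g • H : Subgroup G).index = H.index := by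
  refine Nat.eq_of_mul_eq_mul_left (Nat.card_pos (α := H)) ?_
  conv_lhs => rw [← card_conj' g H]
  rw [Subgroup.card_mul_index, Subgroup.card_mul_index]

theorem isNilpotent_conj' (g : G) {H : Subgroup G} (hH : Group.IsNilpotent H) :
    Group.IsNilpotent (MulAut.conj g • H : Subgroup G) := by
  haveI := hH
  rw [conj_smul_eq_map]
  exact Group.nilpotent_of_mulEquiv ((MulAut.conj g).subgroupMap H)

/-- A Sylow subgroup of `H` is a Sylow subgroup of `G` when `H` is a Hall subgroup. -/
theorem exists_sylow_in_hall {H : Subgroup G} (hHall : (Nat.card H).Coprime H.index) {p : ℕ} [Fact p.Prime]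
    (hp : p ∣ Nat.card H) : ∃ S : Sylow p G, (S : Subgroup G) ≤ H := by
  obtain ⟨T⟩ : Nonempty (Sylow p H) := inferInstance
  refine ⟨Sylow.ofCard ((T : Subgroup H).map H.subtype) ?_, ?_⟩
  · have hni : ¬ p ∣ H.index := fun h =>
      (Fact.out : p.Prime).one_lt.ne' (Nat.eq_one_of_dvd_coprimes hHall hp h)
    rw [Subgroup.card_map_of_injective H.subtype_injective, T.card_eq_multiplicity, ← H.card_mul_index,
      Nat.factorization_mul Nat.card_pos.ne' H.index_ne_zero_of_finite, Finsupp.coe_add, Pi.add_apply,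
      Nat.factorization_eq_zero_of_not_dvd hni, add_zero]
  · exact Subgroup.map_subtype_le _

/-- Wielandt: a nilpotent Hall subgroup contains a conjugate of every subgroup for its primes. -/
theorem le_conj_of_nilpotent_hall {H : Subgroup G} (hH : Group.IsNilpotent H)
    (hHall : (Nat.card H).Coprime H.index) (K : Subgroup G)
    (hK : ∀ p : ℕ, p.Prime → p ∣ Nat.card K → p ∣ Nat.card H) : ∃ x : G, K ≤ MulAut.conj x • H := by
  suffices main : ∀ (n : ℕ) (K H : Subgroup G), Nat.card K = n → Group.IsNilpotent H →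
      (Nat.card H).Coprime H.index → (∀ p : ℕ, p.Prime → p ∣ Nat.card K → p ∣ Nat.card H) →
      ∃ x : G, K ≤ MulAut.conj x • H from main _ K H rfl hH hHall hK
  intro n
  induction n using Nat.strong_induction_on with
  | _ n ih =>
  intro K H hn hH hHall hK
  have hsub : ∀ L : Subgroup G, L ≤ K → L ≠ K → ∃ x : G, L ≤ MulAut.conj x • H := by
    intro L hL hne
    refine ih _ ?_ L H rfl hH hHall fun p hp hd => hK p hp (hd.trans (Subgroup.card_dvd_of_le hL))
    rw [← hn]
    exact Set.ncard_lt_ncard (SetLike.coe_ssubset_coe.mpr (lt_of_le_of_ne hL hne))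
  have hprop : ∀ L : Subgroup K, L ≠ ⊤ → Group.IsNilpotent L := by
    intro L hL
    obtain ⟨x, hx⟩ := hsub (L.map K.subtype) (Subgroup.map_subtype_le L) fun h => hL
      (Subgroup.map_injective K.subtype_injective (by rw [h, ← MonoidHom.range_eq_map, Subgroup.range_subtype]))
    haveI := isNilpotent_of_le hx (isNilpotent_conj' x hH)
    exact Group.nilpotent_of_mulEquiv (L.equivMapOfInjective K.subtype K.subtype_injective).symm
  -- the nilpotent case
  have hnilK : Group.IsNilpotent K := by
    by_contra hnot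
    obtain ⟨p, q, hp, hq, hpq, P, Q, -, hQn, htop, hPn, -⟩ := minimal_nonnilpotent_structure hnot hprop
    haveI := Fact.mk hp
    haveI := Fact.mk hq
    haveI := hQn
    have hQne : (Q : Subgroup K).map K.subtype ≠ K := fun h => by
      have hQt : (Q : Subgroup K) = ⊤ := Subgroup.map_injective K.subtype_injective
        (by rw [h, ← MonoidHom.range_eq_map, Subgroup.range_subtype])
      have hKq : IsPGroup q K := by
        have := Q.isPGroup'
        rw [hQt] at this
        exact this.of_equiv Subgroup.topEquiv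
      exact hnot hKq.isNilpotent
    obtain ⟨g, hg⟩ := hsub _ (Subgroup.map_subtype_le _) hQne
    let H' := MulAut.conj g • H
    have hH' : Group.IsNilpotent H' := isNilpotent_conj' g hH
    have hHall' : (Nat.card H').Coprime H'.index := by rw [card_conj', index_conj']; exact hHall
    by_cases hpK : p ∣ Nat.card K
    swap
    · apply hPn
      rw [Subgroup.eq_bot_of_card_eq (P : Subgroup K)
        (by rw [P.card_eq_multiplicity, Nat.factorization_eq_zero_of_not_dvd hpK, pow_zero])]
      exact Subgroup.normal_bot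
    have hpH : p ∣ Nat.card H' := by rw [card_conj']; exact hK p hp hpK
    obtain ⟨S, hS⟩ := exists_sylow_in_hall hHall' hpH
    let C := Subgroup.centralizer (((Q : Subgroup K).map K.subtype : Subgroup G) : Set G)
    have hSC : (S : Subgroup G) ≤ C := by
      intro s hs
      rw [Subgroup.mem_centralizer_iff]
      intro y hy
      refine commute_of_coprime_mem hH' (hg hy) (hS hs) ?_
      obtain ⟨i, hi⟩ := IsPGroup.iff_card.mp S.isPGroup'
      obtain ⟨j, hj⟩ := IsPGroup.iff_card.mp (Q.isPGroup'.map K.subtype)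
      exact ((Nat.Coprime.pow j i ((Nat.coprime_primes hq hp).mpr hpq.symm)).coprime_dvd_left
        (hj ▸ Subgroup.orderOf_dvd_natCard _ hy)).coprime_dvd_right (hi ▸ Subgroup.orderOf_dvd_natCard _ hs)
    have hpC : ¬ p ∣ C.index := fun h => S.not_dvd_index (h.trans (Subgroup.index_dvd_of_le hSC))
    apply hPn
    rw [← Subgroup.normalizer_eq_top_iff, eq_top_iff, ← htop]
    refine sup_le Subgroup.le_normalizer ((Subgroup.le_centralizer_iff.mp ?_).trans (Subgroup.centralizer_le_normalizer _))
    intro r hr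
    have hrN : (r : G) ∈ Subgroup.normalizer (((Q : Subgroup K).map K.subtype : Subgroup G) : Set G) := by
      have := Subgroup.le_normalizer_map (H := (Q : Subgroup K)) K.subtype
      exact this ⟨r, by rw [Subgroup.normalizer_eq_top]; trivial, rfl⟩
    have hrC : (r : G) ∈ C := by
      let N := Subgroup.normalizer (((Q : Subgroup K).map K.subtype : Subgroup G) : Set G)
      haveI hCn : (C.subgroupOf N).Normal := by
        refine ⟨fun c hc y => ?_⟩
        simp only [Subgroup.mem_subgroupOf, Subgroup.coe_mul, Subgroup.coe_inv] at hc ⊢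
        rw [Subgroup.mem_centralizer_iff]
        intro z hz
        have hz' : (y : G)⁻¹ * z * y ∈ ((Q : Subgroup K).map K.subtype) := by
          have := (Subgroup.mem_normalizer_iff.mp (inv_mem y.2) z).mp hz
          simpa using this
        have := Subgroup.mem_centralizer_iff.mp hc _ hz'
        calc z * ((y : G) * c * (y : G)⁻¹) = y * (((y : G)⁻¹ * z * y) * c) * (y : G)⁻¹ := by group
          _ = y * (c * ((y : G)⁻¹ * z * y)) * (y : G)⁻¹ := by rw [this]
          _ = (y : G) * c * (y : G)⁻¹ * z := by group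
      have h1 : orderOf (QuotientGroup.mk' (C.subgroupOf N) ⟨r, hrN⟩) ∣ orderOf r := by
        refine (orderOf_map_dvd _ _).trans ?_
        rw [Subgroup.orderOf_mk, Subgroup.orderOf_coe]
      have h2 : orderOf (QuotientGroup.mk' (C.subgroupOf N) ⟨r, hrN⟩) ∣ (C.subgroupOf N).index := by
        rw [Subgroup.index_eq_card]; exact orderOf_dvd_natCard _
      have h3 : (C.subgroupOf N).index ∣ C.index :=
        Subgroup.relIndex_dvd_index_of_le
          ((Subgroup.centralizer_le_normalizer _) : C ≤ N)
      obtain ⟨k, hk⟩ := IsPGroup.iff_card.mp P.isPGroup'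
      have h4 : orderOf r ∣ p ^ k := hk ▸ Subgroup.orderOf_dvd_natCard _ hr
      have hh : (⟨r, hrN⟩ : N) ∈ C.subgroupOf N :=
        (QuotientGroup.eq_one_iff (N := C.subgroupOf N) _).mp (orderOf_eq_one_iff.mp (Nat.eq_one_of_dvd_coprimes
          (Nat.Coprime.pow_left k (hp.coprime_iff_not_dvd.mpr hpC))
          (h1.trans h4) (h2.trans h3)))
      exact hh
    rw [Subgroup.mem_centralizer_iff]
    intro z hz
    exact Subtype.ext (Subgroup.mem_centralizer_iff.mp hrC z ⟨z, hz, rfl⟩)
  by_cases hK1 : Nat.card K = 1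
  · exact ⟨1, by rw [Subgroup.eq_bot_of_card_eq K hK1]; exact bot_le⟩
  obtain ⟨q, hq, hqK⟩ := Nat.exists_prime_and_dvd hK1
  haveI := Fact.mk hq
  haveI := hnilK
  obtain ⟨Q, N, hN, hc⟩ := (Transfer.hasNPC_of_nilpotent (p := q) (G := K))
  let K0 := N.map K.subtype
  have hK0ne : K0 ≠ K := fun h => by
    have hNt : N = ⊤ := Subgroup.map_injective K.subtype_injective
      (by rw [← MonoidHom.range_eq_map, Subgroup.range_subtype]; exact h)
    have hQb : (Q : Subgroup K) = ⊥ := by
      have := hc.disjoint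
      rw [hNt, top_disjoint] at this
      exact this
    exact Q.ne_bot_of_dvd_card hqK hQb
  obtain ⟨g, hg⟩ := hsub K0 (Subgroup.map_subtype_le _) hK0ne
  let H' := MulAut.conj g • H
  have hH' : Group.IsNilpotent H' := isNilpotent_conj' g hH
  have hHall' : (Nat.card H').Coprime H'.index := by rw [card_conj', index_conj']; exact hHall
  have hqH : q ∣ Nat.card H' := by rw [card_conj']; exact hK q hq hqK
  obtain ⟨S, hS⟩ := exists_sylow_in_hall hHall' hqH
  let C := Subgroup.centralizer ((K0 : Subgroup G) : Set G)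
  have hNq : ∀ y ∈ K0, (orderOf y).Coprime q := by
    rintro _ ⟨w, hw, rfl⟩
    rw [Subgroup.coe_subtype, Subgroup.orderOf_coe]
    have : ¬ q ∣ Nat.card N := by rw [← hc.index_eq_card]; exact Q.not_dvd_index
    exact ((hq.coprime_iff_not_dvd.mpr this).symm).coprime_dvd_left (Subgroup.orderOf_dvd_natCard _ hw)
  have hqg : ∀ {y s : G}, y ∈ K0 → ∀ i, orderOf s ∣ q ^ i → (orderOf y).Coprime (orderOf s) :=
    fun hy i hs => ((hNq _ hy).pow_right i).coprime_dvd_right hs
  have hSC : (S : Subgroup G) ≤ C := by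
    intro s hs
    rw [Subgroup.mem_centralizer_iff]
    intro y hy
    obtain ⟨i, hi⟩ := IsPGroup.iff_card.mp S.isPGroup'
    exact commute_of_coprime_mem hH' (hg hy) (hS hs) (hqg hy i (hi ▸ Subgroup.orderOf_dvd_natCard _ hs))
  have hQC : (Q : Subgroup K).map K.subtype ≤ C := by
    intro s hs
    rw [Subgroup.mem_centralizer_iff]
    intro y hy
    obtain ⟨i, hi⟩ := IsPGroup.iff_card.mp (Q.isPGroup'.map K.subtype)
    exact commute_of_coprime_mem hnilK (Subgroup.map_subtype_le _ hy) (Subgroup.map_subtype_le _ hs)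
      (hqg hy i (hi ▸ Subgroup.orderOf_dvd_natCard _ hs))
  obtain ⟨R, hR⟩ := ((Q.isPGroup'.map K.subtype).comap_subtype (K := C)).exists_le_sylow
  obtain ⟨c, hc'⟩ := MulAction.exists_smul_eq C R (S.subtype hSC)
  have hconjQ : ∀ x ∈ (Q : Subgroup K).map K.subtype, (c : G) * x * (c : G)⁻¹ ∈ (S : Subgroup G) := by
    intro x hx
    have h1 : c * (⟨x, hQC hx⟩ : C) * c⁻¹ ∈ ((c • R : Sylow q C) : Subgroup C) := by
      rw [Sylow.coe_subgroup_smul, mem_conj_smul]
      convert hR (show (⟨x, hQC hx⟩ : C) ∈ (((Q : Subgroup K).map K.subtype).comap C.subtype) from hx) using 1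
      group
    rw [hc', Sylow.coe_subtype, Subgroup.mem_subgroupOf] at h1
    exact h1
  refine ⟨(c : G)⁻¹ * g, fun k hk => ?_⟩
  rw [map_mul, mul_smul, mem_conj_smul, inv_inv]
  obtain ⟨a, ha, b, hb, hab⟩ := Subgroup.mem_sup_of_normal_left.mp
    (hc.sup_eq_top ▸ Subgroup.mem_top (⟨k, hk⟩ : K) : (⟨k, hk⟩ : K) ∈ N ⊔ (Q : Subgroup K))
  have hk' : k = (a : G) * (b : G) := (congrArg Subtype.val hab).symm
  have hca : (c : G) * a * (c : G)⁻¹ = a := by
    have hh : (a : G) * c = c * a :=
      Subgroup.mem_centralizer_iff.mp c.2 (a : G) (Subgroup.mem_map_of_mem K.subtype ha)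
    rw [← hh, mul_inv_cancel_right]
  rw [hk', show (c : G) * ((a : G) * b) * (c : G)⁻¹ = ((c : G) * a * (c : G)⁻¹) * ((c : G) * b * (c : G)⁻¹) by group, hca]
  exact mul_mem (hg (Subgroup.mem_map_of_mem K.subtype ha)) (hS (hconjQ _ (Subgroup.mem_map_of_mem K.subtype hb)))

end Cfsg.Agent.Solv
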