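import Cfsg.Agent.Solv.NilpotentHall
import Cfsg.Agent.Solv.Hall
import Cfsg.Agent.Solv.Fitting
import Cfsg.Agent.Char.Integral
import Mathlib.GroupTheory.GroupAction.ConjAct

/-! Groups all of whose classes of `p`-regular elements have `p`-power size. -/

set_option autoImplicit false
set_option linter.style.haveILetI false
open Pointwise

universe u

namespace Cfsg.Agent.Solv

theorem carrier_ncard {G : Type u} [Group G] [Finite G] (x : G) :
    (ConjClasses.mk x).carrier.ncard = (Subgroup.centralizer ({x} : Set G)).index := by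
  have h : (ConjClasses.mk x).carrier = MulAction.orbit (ConjAct G) x := by
    ext y
    rw [ConjClasses.mem_carrier_iff_mk_eq, ConjAct.mem_orbit_conjAct, ConjClasses.mk_eq_mk_iff_isConj]
  rw [h, ← MulAction.index_stabilizer, ConjAct.stabilizer_eq_centralizer]
  rfl

/-- Every `p`-regular class has `p`-power size, stated with centraliser indices. -/
def PRegularSmall (p : ℕ) (G : Type u) [Group G] : Prop :=
  ∀ x : G, (orderOf x).Coprime p → ∃ k : ℕ, (Subgroup.centralizer ({x} : Set G)).index ∣ p ^ k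

theorem pRegularSmall_subgroup {G : Type u} [Group G] [Finite G] {p : ℕ} (h : PRegularSmall p G)
    (N : Subgroup G) [N.Normal] : PRegularSmall p N := by
  intro x hx
  obtain ⟨k, hk⟩ := h (x : G) (by rwa [Subgroup.orderOf_coe])
  refine ⟨k, dvd_trans ?_ hk⟩
  have he : Subgroup.centralizer ({x} : Set N) = (Subgroup.centralizer ({(x : G)} : Set G)).subgroupOf N := by
    ext y
    rw [Subgroup.mem_subgroupOf, Subgroup.mem_centralizer_singleton_iff, Subgroup.mem_centralizer_singleton_iff,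
      Subtype.ext_iff]
    rfl
  obtain ⟨C, hC⟩ : ∃ C, C = Subgroup.centralizer ({(x : G)} : Set G) := ⟨_, rfl⟩
  rw [he, ← hC]
  show C.relIndex N ∣ C.index
  refine ⟨(C ⊔ N).index, ?_⟩
  have h1 : (C ⊓ N).relIndex C * C.index = (C ⊓ N).index := Subgroup.relIndex_mul_index inf_le_left
  have h2 : (C ⊓ N).relIndex N * N.index = (C ⊓ N).index := Subgroup.relIndex_mul_index inf_le_right
  rw [Subgroup.inf_relIndex_left] at h1
  rw [Subgroup.inf_relIndex_right] at h2
  have h3 : N.relIndex (C ⊔ N) * (C ⊔ N).index = N.index := Subgroup.relIndex_mul_index le_sup_right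
  rw [Subgroup.relIndex_sup_right] at h3
  have hpos : 0 < N.relIndex C := Nat.pos_of_ne_zero fun h0 =>
    N.index_ne_zero_of_finite (by rw [← h3, h0, zero_mul])
  refine Nat.eq_of_mul_eq_mul_left hpos ?_
  rw [h1, ← h2, ← h3]
  ring

theorem exists_pRegular_lift {G : Type u} [Group G] [Finite G] {p : ℕ} [Fact p.Prime] (N : Subgroup G) [N.Normal]
    (y : G ⧸ N) (hy : (orderOf y).Coprime p) : ∃ g : G, (g : G ⧸ N) = y ∧ (orderOf g).Coprime p := by
  obtain ⟨g, rfl⟩ := QuotientGroup.mk'_surjective N y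
  obtain ⟨k, hk⟩ := Transfer.exists_pow_coprime (p := p) g
  obtain ⟨m, hm⟩ := exists_pow_eq_self_of_coprime (x := (g : G ⧸ N)) (n := p ^ k) (hy.symm.pow_left k)
  refine ⟨(g ^ p ^ k) ^ m, ?_, hk.coprime_dvd_left (orderOf_pow_dvd m)⟩
  rw [QuotientGroup.mk_pow, QuotientGroup.mk_pow]
  exact hm

theorem pRegularSmall_quotient {G : Type u} [Group G] [Finite G] {p : ℕ} [Fact p.Prime] (h : PRegularSmall p G)
    (N : Subgroup G) [N.Normal] : PRegularSmall p (G ⧸ N) := by
  intro y hy
  obtain ⟨g, rfl, hg⟩ := exists_pRegular_lift N y hy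
  obtain ⟨k, hk⟩ := h g hg
  refine ⟨k, dvd_trans (dvd_trans (Subgroup.index_dvd_of_le ?_)
    (Subgroup.index_map_dvd _ (QuotientGroup.mk'_surjective N))) hk⟩
  rintro _ ⟨c, hc, rfl⟩
  rw [Subgroup.mem_centralizer_singleton_iff]
  have := Subgroup.mem_centralizer_singleton_iff.mp hc
  exact congrArg (QuotientGroup.mk' N) this |> fun h => by simpa using h

theorem isSolvable_of_pRegularSmall {p : ℕ} [hp : Fact p.Prime] : ∀ (n : ℕ) (G : Type u) [Group G] [Finite G],
    Nat.card G = n → PRegularSmall p G → Group.IsSolvable G := by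
  intro n
  induction n using Nat.strong_induction_on with
  | _ n ih =>
  intro G _ _ hn h
  rcases subsingleton_or_nontrivial G with hG | hG
  · infer_instance
  by_cases hs : ∃ N : Subgroup G, N.Normal ∧ N ≠ ⊥ ∧ N ≠ ⊤
  · obtain ⟨N, hN, hN0, hN1⟩ := hs
    haveI := hN
    have hmul : N.index * Nat.card N = n := hn ▸ N.index_mul_card
    haveI : Group.IsSolvable N := ih _ (lt_of_le_of_ne (hn ▸ Subgroup.card_le_card_group N)
      fun he => hN1 (Subgroup.eq_top_of_card_eq _ (he.trans hn.symm))) N rfl (pRegularSmall_subgroup h N)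
    haveI : Group.IsSolvable (G ⧸ N) := ih _ (by
      rw [← Subgroup.index_eq_card, ← hmul]
      exact lt_mul_of_one_lt_right (Nat.pos_of_ne_zero N.index_ne_zero_of_finite)
        ((Subgroup.one_lt_card_iff_ne_bot N).mpr hN0)) (G ⧸ N) rfl (pRegularSmall_quotient h N)
    refine Group.isSolvable_of_ker_le_range N.subtype (QuotientGroup.mk' N) ?_
    rw [QuotientGroup.ker_mk', Subgroup.range_subtype]
  haveI : IsSimpleGroup G := ⟨fun N hN => by
    by_contra hc
    rw [not_or] at hc
    exact hs ⟨N, hN, hc.1, hc.2⟩⟩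
  by_cases hreg : ∃ x : G, x ≠ 1 ∧ (orderOf x).Coprime p
  · obtain ⟨x, hx1, hx⟩ := hreg
    obtain ⟨k, hk⟩ := h x hx
    obtain ⟨j, -, hj⟩ := (Nat.dvd_prime_pow hp.out).mp hk
    have hprime := Char.prime_card_of_class_prime_pow p j hp.out x hx1 hj
    haveI := Fact.mk hprime
    haveI : IsCyclic G := isCyclic_of_prime_card (p := Nat.card G) rfl
    letI : CommGroup G := IsCyclic.commGroup
    infer_instance
  · simp only [not_exists, not_and] at hreg
    haveI : Group.IsNilpotent G := IsPGroup.isNilpotent (p := p) (fun x => by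
      obtain ⟨k, hk⟩ := Transfer.exists_pow_coprime (p := p) x
      refine ⟨k, ?_⟩
      by_contra hne
      exact hreg _ hne hk)
    infer_instance

theorem pCore_quotient_eq_bot {G : Type u} [Group G] [Finite G] (p : ℕ) [Fact p.Prime] :
    haveI := (pCore_mem (G := G) p).1
    pCore p (G ⧸ pCore p G) = ⊥ := by
  haveI := (pCore_mem (G := G) p).1
  haveI := (pCore_mem (G := G ⧸ pCore p G) p).1
  have h1 : IsPGroup p ((pCore p (G ⧸ pCore p G)).comap (QuotientGroup.mk' (pCore p G))) :=
    (pCore_mem p).2.comap_of_ker_isPGroup _ (by rw [QuotientGroup.ker_mk']; exact (pCore_mem p).2)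
  have h2 := le_pCore (inferInstance : ((pCore p (G ⧸ pCore p G)).comap (QuotientGroup.mk' (pCore p G))).Normal) h1
  rw [eq_bot_iff]
  intro y hy
  obtain ⟨x, rfl⟩ := QuotientGroup.mk'_surjective (pCore p G) y
  exact (QuotientGroup.eq_one_iff x).mpr (h2 hy)

theorem comm_of_pCore_bot {G : Type u} [Group G] [Finite G] {p : ℕ} [hp : Fact p.Prime] [Group.IsSolvable G]
    (h : PRegularSmall p G) (hO : pCore p G = ⊥) {H : Subgroup G} (hH : ¬ p ∣ Nat.card H) {a : ℕ}
    (hidx : H.index = p ^ a) : ∀ x ∈ H, ∀ y ∈ H, x * y = y * x := by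
  have hF : ∀ (L : Subgroup G) (b : ℕ), ¬ p ∣ Nat.card L → L.index = p ^ b → fittingSubgroup G ≤ L := by
    intro L b hL hb
    rw [fittingSubgroup_eq_iSup]
    refine iSup_le fun q => ?_
    haveI := Fact.mk q.2
    by_cases hq : (q : ℕ) = p
    · rw [hq, hO]; exact bot_le
    haveI := (pCore_mem (G := G) (q : ℕ)).1
    have h1 : (pCore (q : ℕ) G).relIndex L * Nat.card (pCore (q : ℕ) G) = Nat.card (L ⊔ pCore (q : ℕ) G : Subgroup G) := by
      rw [← Subgroup.relIndex_sup_right, mul_comm, ← Subgroup.relIndex_bot_left, ← Subgroup.relIndex_bot_left]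
      exact Subgroup.relIndex_mul_relIndex _ _ _ bot_le le_sup_right
    obtain ⟨i, hi⟩ := IsPGroup.iff_card.mp (pCore_mem (G := G) (q : ℕ)).2
    have hcop : (Nat.card (L ⊔ pCore (q : ℕ) G : Subgroup G)).Coprime p := by
      rw [← h1, hi]
      exact Nat.Coprime.mul_left ((hp.out.coprime_iff_not_dvd.mpr hL).symm.coprime_dvd_left (Subgroup.relIndex_dvd_card _ _))
        (Nat.Coprime.pow_left i ((Nat.coprime_primes q.2 hp.out).mpr hq))
    have h3 : Nat.card (L ⊔ pCore (q : ℕ) G : Subgroup G) ∣ Nat.card L := by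
      refine (hcop.pow_right b).dvd_of_dvd_mul_right ?_
      rw [← hb, Subgroup.card_mul_index]
      exact Subgroup.card_subgroup_dvd_card _
    exact le_sup_right.trans (Subgroup.eq_of_le_of_card_ge le_sup_left (Nat.le_of_dvd Nat.card_pos h3)).ge
  have hcen : ∀ x : G, (orderOf x).Coprime p → fittingSubgroup G ≤ Subgroup.centralizer ({x} : Set G) := by
    intro x hx
    obtain ⟨k, hk⟩ := h x hx
    obtain ⟨j, -, hj⟩ := (Nat.dvd_prime_pow hp.out).mp hk
    obtain ⟨C, hC⟩ : ∃ C, C = Subgroup.centralizer ({x} : Set G) := ⟨_, rfl⟩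
    rw [← hC] at hj ⊢
    obtain ⟨e, r, hr, her⟩ := Nat.exists_eq_pow_mul_and_not_dvd (Nat.card_pos (α := C)).ne' p hp.out.ne_one
    obtain ⟨S, hS, -⟩ := hall_exists_dominating (G := C) (m := r) (n := p ^ e) (by rw [her, mul_comm])
      ((hp.out.coprime_iff_not_dvd.mpr hr).symm.pow_right e)
    refine (hF (S.map C.subtype) (e + j) ?_ ?_).trans (Subgroup.map_subtype_le _)
    · rw [Subgroup.card_map_of_injective C.subtype_injective, hS]; exact hr
    · have hi : S.index = p ^ e := by
        have := S.card_mul_index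
        rw [hS, her, mul_comm (p ^ e)] at this
        exact Nat.eq_of_mul_eq_mul_left (Nat.pos_of_ne_zero fun h => hr (by rw [h]; exact dvd_zero p)) this
      rw [Subgroup.index_map_subtype, hi, hj, pow_add]
  have hHF : H ≤ fittingSubgroup G := fun y hy => centralizer_fitting_le (by
    rw [Subgroup.mem_centralizer_iff]
    intro f hf
    exact Subgroup.mem_centralizer_singleton_iff.mp (hcen y
      ((hp.out.coprime_iff_not_dvd.mpr hH).symm.coprime_dvd_left (Subgroup.orderOf_dvd_natCard _ hy)) hf))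
  intro x hx y hy
  exact (Subgroup.mem_centralizer_singleton_iff.mp (hcen y
    ((hp.out.coprime_iff_not_dvd.mpr hH).symm.coprime_dvd_left (Subgroup.orderOf_dvd_natCard _ hy)) (hHF hx)))

theorem exists_abelian_complement {G : Type u} [Group G] [Finite G] {p : ℕ} [hp : Fact p.Prime]
    (h : PRegularSmall p G) :
    ∃ H : Subgroup G, IsMulCommutative H ∧ ¬ p ∣ Nat.card H ∧ ∃ k : ℕ, H.index = p ^ k := by
  haveI := isSolvable_of_pRegularSmall _ G rfl h
  obtain ⟨e, r, hr, her⟩ := Nat.exists_eq_pow_mul_and_not_dvd (Nat.card_pos (α := G)).ne' p hp.out.ne_one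
  obtain ⟨H, hH, -⟩ := hall_exists_dominating (G := G) (m := r) (n := p ^ e) (by rw [her, mul_comm])
    ((hp.out.coprime_iff_not_dvd.mpr hr).symm.pow_right e)
  have hidx : H.index = p ^ e := by
    have := H.card_mul_index
    rw [hH, her, mul_comm (p ^ e)] at this
    exact Nat.eq_of_mul_eq_mul_left (Nat.pos_of_ne_zero fun h => hr (by rw [h]; exact dvd_zero p)) this
  refine ⟨H, ?_, by rwa [hH], e, hidx⟩
  haveI := (pCore_mem (G := G) p).1
  obtain ⟨i, hi⟩ := IsPGroup.iff_card.mp (pCore_mem (G := G) p).2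
  let f := QuotientGroup.mk' (pCore p G)
  have hcm : ¬ p ∣ Nat.card (H.map f) := fun hd => hr (hH ▸ hd.trans (Subgroup.card_map_dvd _ _))
  obtain ⟨a, -, ha⟩ := (Nat.dvd_prime_pow hp.out).mp
    ((Subgroup.index_map_dvd H (QuotientGroup.mk'_surjective (pCore p G))).trans (dvd_of_eq hidx))
  have hc := comm_of_pCore_bot (pRegularSmall_quotient h (pCore p G)) (pCore_quotient_eq_bot p) hcm ha
  refine ⟨⟨fun x y => Subtype.ext ?_⟩⟩
  have hxy := hc (f x) (Subgroup.mem_map_of_mem f x.2) (f y) (Subgroup.mem_map_of_mem f y.2)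
  rw [← map_mul, ← map_mul] at hxy
  have h1 : ((x : G) * y)⁻¹ * ((y : G) * x) ∈ H ⊓ pCore p G :=
    Subgroup.mem_inf.mpr ⟨mul_mem (inv_mem (mul_mem x.2 y.2)) (mul_mem y.2 x.2), QuotientGroup.eq.mp hxy⟩
  have hd : H ⊓ pCore p G = ⊥ := (Subgroup.disjoint_of_coprime_natCard (by
    rw [hi, hH]; exact (hp.out.coprime_iff_not_dvd.mpr hr).symm.pow_right i)).eq_bot
  rw [hd, Subgroup.mem_bot] at h1
  exact inv_mul_eq_one.mp h1

theorem pRegularSmall_of_complement {G : Type u} [Group G] [Finite G] {p : ℕ} [hp : Fact p.Prime]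
    {H : Subgroup G} (hcomm : IsMulCommutative H) (hH : ¬ p ∣ Nat.card H) {k : ℕ} (hidx : H.index = p ^ k) :
    PRegularSmall p G := by
  intro x hx
  refine ⟨k, ?_⟩
  have hnil : Group.IsNilpotent H := by
    letI : CommGroup H := { (inferInstance : Group H) with mul_comm := hcomm.is_comm.comm }
    infer_instance
  obtain ⟨g, hg⟩ := le_conj_of_nilpotent_hall hnil
    (by rw [hidx]; exact ((hp.out.coprime_iff_not_dvd.mpr hH).symm).pow_right k) (Subgroup.zpowers x)
    (fun q hq hd => by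
      rw [Nat.card_zpowers] at hd
      have hqp : q.Coprime p := hx.coprime_dvd_left hd
      refine (hqp.pow_right k).dvd_of_dvd_mul_right ?_
      rw [← hidx, Subgroup.card_mul_index]
      exact hd.trans (orderOf_dvd_natCard x))
  have hle : MulAut.conj g • H ≤ Subgroup.centralizer ({x} : Set G) := fun y hy => by
    rw [Subgroup.mem_centralizer_singleton_iff]
    have hx' : x ∈ MulAut.conj g • H := hg (Subgroup.mem_zpowers x)
    obtain ⟨a, ha, rfl⟩ := hx'
    obtain ⟨b, hb, rfl⟩ := hy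
    show (g * b * g⁻¹) * (g * a * g⁻¹) = (g * a * g⁻¹) * (g * b * g⁻¹)
    have := congrArg Subtype.val (hcomm.is_comm.comm (⟨b, hb⟩ : H) ⟨a, ha⟩)
    have hba : b * a = a * b := this
    calc (g * b * g⁻¹) * (g * a * g⁻¹) = g * (b * a) * g⁻¹ := by group
      _ = g * (a * b) * g⁻¹ := by rw [hba]
      _ = _ := by group
  refine (Subgroup.index_dvd_of_le hle).trans (dvd_of_eq ?_)
  rw [index_conj', hidx]

end Cfsg.Agent.Solv
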